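import Groth.Agent.L21.PlaneCurve.HypCoh
import Groth.Agent.L17.ProjFormula
import Groth.Agent.L16.Existence.Vanishing
import Groth.Agent.L03.Euler.Twist
import Groth.Agent.L18.AmplePull

/-!
Cohomology of hypersurfaces: transport to the subscheme, and the dimension formulas.
-/

set_option autoImplicit false
set_option backward.isDefEq.respectTransparency false
set_option linter.style.haveILetI false
universe u

open CategoryTheory CategoryTheory.Limits AlgebraicGeometry TopologicalSpace Opposite

noncomputable section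

namespace Groth.L21.PlaneCurve

open Groth.L00.Tensor (tensorIso tensorComm tensorUnitRight)
open Groth.L16.CohLinear (hmap overLin delta exact_hmap_hmap exact_hmap_delta exact_delta_hmap)
open Groth.L21.RR (h hk)

variable {k : Type u} [Field k] {N : ℕ}

/-- Pullback of twists to a closed subscheme. -/
abbrev OC (I : (CohB1.ProjSpace N k).IdealSheafData) (n : ℤ) : I.subscheme.Modules :=
  (Scheme.Modules.pullback I.subschemeι).obj (Twist.twistProjSpace N k n)

theorem isInvertible_OC (I : (CohB1.ProjSpace N k).IdealSheafData) (n : ℤ) : PicF.IsInvertible (OC I n) :=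
  Groth.L18.Ample.isInvertible_pullback I.subschemeι
    (Groth.L16.ProjTwist.isInvertible_twistProjSpace N k n)

theorem isLocallyNoetherian_sub (I : (CohB1.ProjSpace N k).IdealSheafData) : IsLocallyNoetherian I.subscheme :=
  haveI : IsProper (CohB1.ProjSpace.toSpec N k) := properProj k N
  LocallyOfFiniteType.isLocallyNoetherian (I.subschemeι ≫ CohB1.ProjSpace.toSpec N k)

theorem isQCoh_OC (I : (CohB1.ProjSpace N k).IdealSheafData) (n : ℤ) : Coh.IsQCoh (OC I n) :=
  haveI := isLocallyNoetherian_sub I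
  (Groth.L16.ProperFinite.isCoh_of_isInvertible (isInvertible_OC I n)).1

theorem nonempty_OX_iso (I : (CohB1.ProjSpace N k).IdealSheafData) (n : ℤ) :
    Nonempty (OX I n ≅ (Scheme.Modules.pushforward I.subschemeι).obj (OC I n)) := by
  haveI := Groth.L17.ProjFormula.isIso_θ I.subschemeι (Twist.twistProjSpace N k n)
    (Coh.structureModule I.subscheme)
    (Groth.L16.Existence.isFinLocFree_of_isInvertible (Groth.L16.ProjTwist.isInvertible_twistProjSpace N k n))
  exact ⟨tensorComm _ _ ≪≫ asIso (Groth.L17.ClosedPush.θ I.subschemeι (Coh.structureModule I.subscheme)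
    (Twist.twistProjSpace N k n)) ≪≫ (Scheme.Modules.pushforward I.subschemeι).mapIso (tensorUnitRight _)⟩

theorem nonempty_push_equiv {X Y : Scheme.{u}} [X.Over (Spec (CommRingCat.of k))] [Y.Over (Spec (CommRingCat.of k))]
    (f : X ⟶ Y) [IsAffineHom f] [Y.IsSeparated]
    (hf : f ≫ (Y ↘ Spec (CommRingCat.of k)) = X ↘ Spec (CommRingCat.of k)) (M : X.Modules) [Coh.IsQCoh M]
    (p : ℕ) : Nonempty (Coh.HH X M p ≃ₗ[k] Coh.HH Y ((Coh.push f).obj M) p) := by
  haveI : Coh.IsQCoh ((Coh.push f).obj M) := Groth.L16.QcqsPush.isQCoh_push M f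
  let V : Y.affineOpens → Y.Opens := fun U => U.1
  have hV : ∀ (n : ℕ) (a : Fin (n + 1) → Y.affineOpens), IsAffineOpen (⨅ j, V (a j)) :=
    fun n a => IsAffineOpen.iInf fun j => (a j).2
  obtain ⟨e, he⟩ := Groth.L16.PushCompare.exists_HH_push f M V (iSup_affineOpens_eq_top Y)
    (fun n a q => subsingleton_of_forall_eq 0 (Groth.L17.hu_affine_eq_zero _ ((hV n a).preimage f) q))
    (fun n a q => subsingleton_of_forall_eq 0 (Groth.L17.hu_affine_eq_zero _ (hV n a) q)) p
  exact ⟨{ e with
      map_smul' := fun a x => by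
        have h0 : Coh.toGlobal (X ↘ Spec (CommRingCat.of k)) a =
            (show Coh.Γtop X from f.appTop (Coh.toGlobal (Y ↘ Spec (CommRingCat.of k)) a)) :=
          congrArg (fun g : X ⟶ Spec (CommRingCat.of k) => Coh.toGlobal g a) hf.symm
        exact (congrArg e (congrArg (fun c : Coh.Γtop X => c • x) h0)).trans
          (he (Coh.toGlobal (Y ↘ Spec (CommRingCat.of k)) a) x) }⟩

section Sub

variable (I : (CohB1.ProjSpace N k).IdealSheafData) [I.subscheme.Over (Spec (CommRingCat.of k))]
  (hinst : I.subscheme ↘ Spec (CommRingCat.of k) = I.subschemeι ≫ CohB1.ProjSpace.toSpec N k)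

include hinst in
theorem h_OX_eq (n : ℤ) (p : ℕ) : h k p (OX I n) = h k p (OC I n) := by
  haveI := properProj k N
  haveI : (CohB1.ProjSpace N k).IsSeparated := by
    refine ⟨?_⟩
    rw [Subsingleton.elim (terminal.from (CohB1.ProjSpace N k))
      (CohB1.ProjSpace.toSpec N k ≫ terminal.from _)]
    haveI : IsProper (CohB1.ProjSpace.toSpec N k) := properProj k N
    infer_instance
  haveI := isQCoh_OC I n
  obtain ⟨e⟩ := nonempty_OX_iso I n
  exact (Groth.L21.RR.h_congr k e p).trans
    (Groth.L21.P1.h_push_affine k I.subschemeι hinst.symm (OC I n) p)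

end Sub

theorem support_ne_univ (I : (CohB1.ProjSpace N k).IdealSheafData) {d : ℕ}
    (hI : Nonempty (ClSub.idealMod I ≅ Twist.twistProjSpace N k (-(d : ℤ)))) :
    (I.support : Set (CohB1.ProjSpace N k)) ≠ Set.univ := by
  intro h
  haveI : IsIntegral (CohB1.ProjSpace N k) := Groth.L16.ProjSpace.isIntegral (n := N) (R := k)
  haveI : Surjective I.subschemeι := ⟨by
    rw [← Set.range_eq_univ, Scheme.IdealSheafData.range_subschemeι]; exact h⟩
  haveI : IsIso I.subschemeι := isIso_of_isClosedImmersion_of_surjective _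
  haveI : Mono (ClSub.toSubscheme I) := by
    refine (Scheme.Modules.toPresheaf _).mono_of_mono_map ?_
    haveI : ∀ U, Mono (((Scheme.Modules.toPresheaf _).map (ClSub.toSubscheme I)).app U) := fun U => by
      rw [AddCommGrpCat.mono_iff_injective]
      exact (ConcreteCategory.bijective_of_isIso (I.subschemeι.app U.unop)).1
    exact NatTrans.mono_of_mono_app _
  have hz : IsZero (Twist.twistProjSpace N k (-(d : ℤ))) :=
    (isZero_kernel_of_mono (ClSub.toSubscheme I)).of_iso hI.some.symm
  obtain ⟨x⟩ := (inferInstance : Nonempty (CohB1.ProjSpace N k))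
  obtain ⟨e⟩ := Groth.L03.Euler.exists_stalk_equiv (Groth.L16.ProjTwist.isInvertible_twistProjSpace N k (-(d : ℤ))) x
  haveI : Subsingleton ((Groth.L00.Stk.F _ x).obj (Twist.twistProjSpace N k (-(d : ℤ)))) :=
    ModuleCat.subsingleton_of_isZero ((Groth.L00.Stk.F _ x).map_isZero hz)
  exact not_subsingleton ((CohB1.ProjSpace N k).presheaf.stalk x) e.toEquiv.subsingleton

theorem subsingleton_OX {m : ℕ} {d : ℕ} (I : (CohB1.ProjSpace (m + 1) k).IdealSheafData)
    (hI : Nonempty (ClSub.idealMod I ≅ Twist.twistProjSpace (m + 1) k (-(d : ℤ)))) (n : ℤ) {p : ℕ} (hp : m < p) :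
    Subsingleton (Coh.HH (CohB1.ProjSpace (m + 1) k) (OX I n) p) := by
  letI : I.subscheme.Over (Spec (CommRingCat.of k)) :=
    ⟨I.subschemeι ≫ CohB1.ProjSpace.toSpec (m + 1) k⟩
  haveI := properProj k (m + 1)
  haveI : (CohB1.ProjSpace (m + 1) k).IsSeparated := by
    refine ⟨?_⟩
    rw [Subsingleton.elim (terminal.from (CohB1.ProjSpace (m + 1) k))
      (CohB1.ProjSpace.toSpec (m + 1) k ≫ terminal.from _)]
    haveI : IsProper (CohB1.ProjSpace.toSpec (m + 1) k) := properProj k (m + 1)
    infer_instance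
  haveI := isQCoh_OC I n
  obtain ⟨e⟩ := nonempty_OX_iso I n
  obtain ⟨g⟩ := nonempty_push_equiv (k := k) I.subschemeι rfl (OC I n) p
  haveI := subsingleton_OX_of_lt I (support_ne_univ I hI) (M := OC I n) hp
  haveI := g.symm.toEquiv.subsingleton
  refine ⟨fun x y => ?_⟩
  have key : ∀ z, z = hmap e.inv p (hmap e.hom p z) := fun z => by
    rw [← Groth.L16.CohLinear.hmap_comp, e.hom_inv_id, Groth.L16.CohLinear.hmap_id]
  rw [key x, key y, Subsingleton.elim (hmap e.hom p x) (hmap e.hom p y)]

section Formulas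

variable {m d : ℕ} (I : (CohB1.ProjSpace (m + 1) k).IdealSheafData)
  (hI : Nonempty (ClSub.idealMod I ≅ Twist.twistProjSpace (m + 1) k (-(d : ℤ)))) (n : ℤ)

include hI in
theorem subsingleton_OX_mid {p : ℕ} (hp : p ≠ 0) (hpm : p ≠ m) :
    Subsingleton (Coh.HH (CohB1.ProjSpace (m + 1) k) (OX I n) p) := by
  rcases lt_or_ge m p with hlt | hle
  · exact subsingleton_OX I hI n hlt
  obtain ⟨f, g, w, hS⟩ := exists_ses I hI n
  haveI := h_mid_twist k (m + 1) (p := p) hp (by omega) n
  haveI := h_mid_twist k (m + 1) (p := p + 1) (by omega) (by omega) (n - d)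
  refine subsingleton_of_forall_eq 0 fun y => ?_
  obtain ⟨z, hz⟩ := (exact_hmap_delta hS p y).1 (Subsingleton.elim _ _)
  rw [← hz, Subsingleton.elim z 0]
  exact map_zero _

include hI in
theorem finite_OX (p : ℕ) : Module.Finite k (Coh.HH (CohB1.ProjSpace (m + 1) k) (OX I n) p) := by
  obtain ⟨f, g, w, hS⟩ := exists_ses I hI n
  haveI := finite_twist k (m + 1) n p
  haveI := finite_twist k (m + 1) (n - d) (p + 1)
  let a := overLin k (hmap g p)
  let b := overLin k (delta hS p)
  have hab : Function.Exact a b := exact_hmap_delta hS p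
  haveI : Module.Finite k (LinearMap.range b) := inferInstance
  haveI : Module.Finite k (LinearMap.ker b) := by
    rw [LinearMap.exact_iff.1 hab]; infer_instance
  haveI := Module.Finite.equiv b.quotKerEquivRange.symm
  exact Module.Finite.of_submodule_quotient (LinearMap.ker b)

include hI in
theorem h0_OX_add (hm : 1 ≤ m) :
    h k 0 (OX I n) + h k 0 (Twist.twistProjSpace (m + 1) k (n - d)) =
      h k 0 (Twist.twistProjSpace (m + 1) k n) := by
  obtain ⟨f, g, w, hS⟩ := exists_ses I hI n
  haveI := finite_twist k (m + 1) n 0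
  haveI := h_mid_twist k (m + 1) (p := 1) one_ne_zero (by omega) (n - d)
  haveI : Mono f := hS.mono_f
  have h1 := Groth.L03.Euler.finrank_eq_add (k := k) (overLin k (hmap f 0)) (overLin k (hmap g 0))
    (exact_hmap_hmap hS 0)
  rw [LinearMap.finrank_range_of_inj (show Function.Injective (overLin k (hmap f 0)) from
      Groth.L21.RR.injective_hmap_zero f),
    show LinearMap.range (overLin k (hmap g 0)) = ⊤ from
      LinearMap.range_eq_top.2 fun y => (exact_hmap_delta hS 0 y).1 (Subsingleton.elim _ _), finrank_top] at h1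
  change h k 0 (Twist.twistProjSpace (m + 1) k n) = h k 0 (Twist.twistProjSpace (m + 1) k (n - d)) + h k 0 (OX I n) at h1
  omega

include hI in
theorem h_top_OX_add (hm : 1 ≤ m) :
    h k m (OX I n) + h k (m + 1) (Twist.twistProjSpace (m + 1) k n) =
      h k (m + 1) (Twist.twistProjSpace (m + 1) k (n - d)) := by
  obtain ⟨f, g, w, hS⟩ := exists_ses I hI n
  haveI := finite_twist k (m + 1) (n - d) (m + 1)
  haveI := h_mid_twist k (m + 1) (p := m) (by omega) (by omega) n
  haveI := subsingleton_OX I hI n (show m < m + 1 by omega)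
  have h1 := Groth.L03.Euler.finrank_eq_add (k := k) (overLin k (delta hS m)) (overLin k (hmap f (m + 1)))
    (exact_delta_hmap hS m)
  rw [LinearMap.finrank_range_of_inj (show Function.Injective (overLin k (delta hS m)) from
      (injective_iff_map_eq_zero _).2 fun y hy => by
        obtain ⟨z, hz⟩ := (exact_hmap_delta hS m y).1 hy
        rw [← hz, Subsingleton.elim z 0]
        exact map_zero _),
    show LinearMap.range (overLin k (hmap f (m + 1))) = ⊤ from
      LinearMap.range_eq_top.2 fun y => (exact_hmap_hmap hS (m + 1) y).1 (Subsingleton.elim _ _), finrank_top] at h1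
  change h k (m + 1) (Twist.twistProjSpace (m + 1) k (n - d)) = h k m (OX I n) + h k (m + 1) (Twist.twistProjSpace (m + 1) k n) at h1
  omega

include hI in
theorem h0_OX (hm : 1 ≤ m) :
    h k 0 (OX I n) =
      Nat.choose (n + ((m : ℤ) + 1)).toNat (m + 1) - Nat.choose (n - (d : ℤ) + ((m : ℤ) + 1)).toNat (m + 1) := by
  have := h0_OX_add I hI n hm
  rw [h_zero_twist k (m + 1) (by omega), h_zero_twist k (m + 1) (by omega)] at this
  push_cast at this
  omega

include hI in
theorem h_top_OX (hm : 1 ≤ m) :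
    h k m (OX I n) = Nat.choose (((d : ℤ) - 2 - (m : ℤ) - n) + ((m : ℤ) + 1)).toNat (m + 1) -
      Nat.choose (((d : ℤ) - 2 - (m : ℤ) - n) - (d : ℤ) + ((m : ℤ) + 1)).toNat (m + 1) := by
  have := h_top_OX_add I hI n hm
  rw [h_top_twist k (m + 1) (by omega), h_top_twist k (m + 1) (by omega)] at this
  rw [show ((d : ℤ) - 2 - (m : ℤ) - n) + ((m : ℤ) + 1) = -(n - d) - 1 by ring,
    show ((d : ℤ) - 2 - (m : ℤ) - n) - (d : ℤ) + ((m : ℤ) + 1) = -n - 1 by ring]
  omega

end Formulas

/-- Points of the line: hypersurfaces in `P^1`. -/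
theorem h0_OX_line {d : ℕ} (I : (CohB1.ProjSpace 1 k).IdealSheafData)
    (hI : Nonempty (ClSub.idealMod I ≅ Twist.twistProjSpace 1 k (-(d : ℤ)))) (n : ℤ) :
    (h k 0 (OX I n) : ℤ) = (h k 0 (Twist.twistProjSpace 1 k n) : ℤ) - h k 0 (Twist.twistProjSpace 1 k (n - d))
      + h k 1 (Twist.twistProjSpace 1 k (n - d)) - h k 1 (Twist.twistProjSpace 1 k n) := by
  obtain ⟨f, g, w, hS⟩ := exists_ses I hI n
  haveI := finite_twist k 1 n 0
  haveI := finite_twist k 1 (n - d) 1
  haveI := finite_OX (m := 0) I hI n 0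
  haveI := subsingleton_OX (m := 0) I hI n (show 0 < 1 by omega)
  haveI : Mono f := hS.mono_f
  have h1 := Groth.L03.Euler.finrank_eq_add (k := k) (overLin k (hmap f 0)) (overLin k (hmap g 0))
    (exact_hmap_hmap hS 0)
  have h2 := Groth.L03.Euler.finrank_eq_add (k := k) (overLin k (hmap g 0)) (overLin k (delta hS 0))
    (exact_hmap_delta hS 0)
  have h3 := Groth.L03.Euler.finrank_eq_add (k := k) (overLin k (delta hS 0)) (overLin k (hmap f 1))
    (exact_delta_hmap hS 0)
  rw [LinearMap.finrank_range_of_inj (show Function.Injective (overLin k (hmap f 0)) from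
      Groth.L21.RR.injective_hmap_zero f)] at h1
  rw [show LinearMap.range (overLin k (hmap f 1)) = ⊤ from
      LinearMap.range_eq_top.2 fun y => (exact_hmap_hmap hS 1 y).1 (Subsingleton.elim _ _), finrank_top] at h3
  change h k 0 (Twist.twistProjSpace 1 k n) = h k 0 (Twist.twistProjSpace 1 k (n - d)) + _ at h1
  change h k 0 (OX I n) = _ at h2
  change h k 1 (Twist.twistProjSpace 1 k (n - d)) = _ + h k 1 (Twist.twistProjSpace 1 k n) at h3
  omega

end Groth.L21.PlaneCurve
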