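import Groth.Agent.L21.PlaneCurve.HypIdeal
import Groth.Agent.L21.PlaneCurve.HypSub
import Groth.Agent.L21.RR.Coh
import Groth.Agent.L21.RR.GenusZero
import Groth.Agent.L16.Connected.Fibre
import Groth.Agent.L29.LocFree

/-!
Plane curves: cohomology of the twists, connectedness.
-/

set_option autoImplicit false
set_option backward.isDefEq.respectTransparency false
set_option linter.style.haveILetI false
universe u

open CategoryTheory CategoryTheory.Limits AlgebraicGeometry TopologicalSpace Opposite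

noncomputable section

namespace Groth.L21.PlaneCurve

open Groth.L21.RR (h e0 e0_smul oneSec)

variable {k : Type u} [Field k]

theorem exists_const {X : Scheme.{u}} [X.Over (Spec (CommRingCat.of k))]
    (h0 : h k 0 (Coh.structureModule X) = 1) [Nontrivial Γ(X, ⊤)] (c : Γ(X, ⊤)) :
    ∃ d : k, Coh.toGlobal (X ↘ Spec (CommRingCat.of k)) d = c := by
  have hne : (e0 (Coh.structureModule X)).symm (oneSec X) ≠ 0 := fun h =>
    one_ne_zero (α := Γ(X, ⊤)) ((e0 (Coh.structureModule X)).symm.injective (h.trans (map_zero _).symm))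
  obtain ⟨d, hd⟩ := exists_smul_eq_of_finrank_eq_one h0 hne ((e0 (Coh.structureModule X)).symm c)
  refine ⟨d, ?_⟩
  have h := congrArg (e0 (Coh.structureModule X)) hd
  rw [e0_smul, AddEquiv.apply_symm_apply, AddEquiv.apply_symm_apply] at h
  exact (mul_one (M := Γ(X, ⊤)) _).symm.trans h

theorem connectedSpace_of_h0_eq_one {X : Scheme.{u}} [X.Over (Spec (CommRingCat.of k))]
    (h0 : h k 0 (Coh.structureModule X) = 1) : ConnectedSpace X := by
  haveI : Nontrivial Γ(X, ⊤) := by
    by_contra hn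
    haveI := not_nontrivial_iff_subsingleton.1 hn
    haveI : Subsingleton (Coh.HH X (Coh.structureModule X) 0) :=
      (e0 (Coh.structureModule X)).toEquiv.subsingleton_congr.2 (inferInstanceAs (Subsingleton Γ(X, ⊤)))
    rw [Groth.L21.RR.h_eq_zero_of_subsingleton k this] at h0
    exact zero_ne_one h0
  haveI : IsLocalRing Γ(X, ⊤) := by
    refine IsLocalRing.of_isUnit_or_isUnit_one_sub_self fun a => ?_
    obtain ⟨d, rfl⟩ := exists_const h0 a
    by_cases hd : d = 0
    · exact Or.inr (by rw [hd, map_zero, sub_zero]; exact isUnit_one)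
    · exact Or.inl ((Ne.isUnit hd).map _)
  exact Groth.L16.Connected.connectedSpace_of_isLocalRing

section Curve

variable {d : ℕ} (G : LefPen.Form 2 k d) (hG : G ≠ 0)
  [(LefPen.hypIdeal G).subscheme.Over (Spec (CommRingCat.of k))]
  (hinst : (LefPen.hypIdeal G).subscheme ↘ Spec (CommRingCat.of k) =
    (LefPen.hypIdeal G).subschemeι ≫ CohB1.ProjSpace.toSpec 2 k)

include hG hinst in
theorem h0_OC (n : ℤ) :
    h k 0 (OC (LefPen.hypIdeal G) n) = Nat.choose (n + 2).toNat 2 - Nat.choose (n - (d : ℤ) + 2).toNat 2 := by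
  rw [← h_OX_eq (LefPen.hypIdeal G) hinst, h0_OX (m := 1) (LefPen.hypIdeal G) (nonempty_idealMod_iso hG) n le_rfl]
  norm_num

include hG hinst in
theorem h1_OC (n : ℤ) :
    h k 1 (OC (LefPen.hypIdeal G) n) = Nat.choose ((d : ℤ) - 1 - n).toNat 2 - Nat.choose (-n - 1).toNat 2 := by
  rw [← h_OX_eq (LefPen.hypIdeal G) hinst, h_top_OX (m := 1) (LefPen.hypIdeal G) (nonempty_idealMod_iso hG) n le_rfl]
  congr 2 <;> · push_cast; congr 1; ring

omit [(LefPen.hypIdeal G).subscheme.Over (Spec (CommRingCat.of k))] in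
theorem nonempty_OC_zero : Nonempty (OC (LefPen.hypIdeal G) 0 ≅ Coh.structureModule (LefPen.hypIdeal G).subscheme) := by
  obtain ⟨e⟩ := Groth.L22.Reg.nonempty_O_zero 2 k
  exact ⟨(Scheme.Modules.pullback _).mapIso e ≪≫ Groth.L29.LocFree.pullbackUnitIso _⟩

include hG hinst in
theorem h0_structure (hd : 1 ≤ d) : h k 0 (Coh.structureModule (LefPen.hypIdeal G).subscheme) = 1 := by
  rw [← Groth.L21.RR.h_congr k (nonempty_OC_zero G).some, h0_OC G hG hinst,
    Nat.choose_eq_zero_of_lt (show ((0 : ℤ) - (d : ℤ) + 2).toNat < 2 by omega)]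
  rfl

include hG hinst in
theorem h1_structure : h k 1 (Coh.structureModule (LefPen.hypIdeal G).subscheme) = (d - 1) * (d - 2) / 2 := by
  rw [← Groth.L21.RR.h_congr k (nonempty_OC_zero G).some, h1_OC G hG hinst,
    Nat.choose_eq_zero_of_lt (show (-(0 : ℤ) - 1).toNat < 2 by omega), Nat.sub_zero, Nat.choose_two_right,
    show ((d : ℤ) - 1 - 0).toNat = d - 1 by omega, show d - 1 - 1 = d - 2 by omega]

end Curve

end Groth.L21.PlaneCurve
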