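import Groth.Prelude.Def_LefPen
import Groth.Agent.L16.ProjSpace.Sections
import Groth.Agent.L16.ProjSpace.PosFrames
import Groth.Agent.L22.ZeroScheme
import Groth.Agent.L21.RR.PointPow
import Groth.Agent.L21.RR.IdealTwist
import Groth.Agent.L21.RR.PointDrop
import Groth.Agent.L22.Reg.Pn

/-!
The ideal of a hypersurface of degree `d` is `O(-d)`.
-/

set_option autoImplicit false
set_option backward.isDefEq.respectTransparency false
set_option linter.style.haveILetI false
universe u

open CategoryTheory CategoryTheory.Limits AlgebraicGeometry TopologicalSpace Opposite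

noncomputable section

namespace Groth.L21.PlaneCurve

open Groth.L18.Frame (rs ro IsFrame)
open Groth.L21.RR (st one twι twπ)
open Groth.L16 (homOfSection homOfSection_app)

/-- A section whose zero ideal is `I` trivialises `L ⊗ I`. -/
theorem nonempty_iso_of_range {X : Scheme.{u}} (I : X.IdealSheafData) {L : X.Modules} (hL : PicF.IsInvertible L)
    (φ : Coh.structureModule X ⟶ L) [Mono φ]
    (h : ∀ x : X, ∃ (V : X.Opens) (hV : IsAffineOpen V) (hxV : x ∈ V) (e : Γ(L, V)) (c : Γ(X, V)),
      IsFrame L V e ∧ c • e = rs L le_top (Groth.L18.GenLoc.secOf φ) ∧ I.ideal ⟨V, hV⟩ = Ideal.span {c}) :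
    Nonempty (CohB1.tensorMod L (ClSub.idealMod I) ≅ Coh.structureModule X) := by
  haveI : Mono (twι L I) := (Groth.L21.RR.shortExact_tw I hL).mono_f
  have hrange : ∀ (x : X) (v : L.presheaf.stalk x), (∃ w, st φ x w = v) ↔ ∃ u, st (twι L I) x u = v := by
    intro x v
    obtain ⟨V, hV, hxV, e, c, he, hce, hI⟩ := h x
    have hb := Groth.L21.RR.bijective_germ_frame he hxV
    set ex := L.presheaf.germ V x hxV e
    set θ := Groth.L21.RR.tensorStalkEquiv (L := L) (ClSub.idealMod I) hb
    set θ' := Groth.L21.RR.tensorStalkEquiv (L := L) (Coh.structureModule X) hb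
    have hφ : st φ x (one X x) = X.presheaf.germ V x hxV c • ex := by
      rw [Groth.L21.RR.st_one φ x (W := V) hxV, ← Groth.L20.ModStalk.germ_smul, hce]
      rfl
    let ρ := Groth.L00.Tensor.tensorUnitRight L
    have hρ : ∀ w, ∃ a, θ' w = a • one X x := fun w => by
      obtain ⟨a, ha⟩ := (Groth.L21.RR.bijective_smul_one x).2 (θ' w)
      exact ⟨a, ha.symm⟩
    let w₁ := st ρ.inv x ex
    obtain ⟨ε, hεv⟩ := hρ w₁
    have hεu : IsUnit ε := by
      obtain ⟨b, hb'⟩ := hb.2 (st ρ.hom x (θ'.symm (one X x)))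
      change b • ex = _ at hb'
      have h2 := congrArg (fun z => θ' (st ρ.inv x z)) hb'
      simp only [map_smul] at h2
      rw [← Groth.L21.RR.st_comp, Iso.hom_inv_id] at h2
      change b • θ' w₁ = _ at h2
      rw [hεv, smul_smul] at h2
      have h3 : θ' (st (𝟙 (CohB1.tensorMod L (Coh.structureModule X))) x (θ'.symm (one X x))) = one X x := by
        rw [show st (𝟙 (CohB1.tensorMod L (Coh.structureModule X))) x (θ'.symm (one X x)) = θ'.symm (one X x) by
          rw [st, CategoryTheory.Functor.map_id]; rfl, LinearEquiv.apply_symm_apply]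
      have h4 : b * ε = 1 := (Groth.L21.RR.bijective_smul_one x).1 ((h2.trans h3).trans (one_smul _ _).symm)
      exact IsUnit.of_mul_eq_one _ (by rw [mul_comm]; exact h4)
    have key : ∀ (u : (CohB1.tensorMod L (ClSub.idealMod I)).presheaf.stalk x) (a : X.presheaf.stalk x),
        st (twι L I) x u = a • ex ↔ st (ClSub.idealModι I) x (θ u) = (a * ε) • one X x := by
      intro u a
      have e1 : st (twι L I) x u = st ρ.hom x (st (((DCoh.tensorBi (X := X)).obj L).map (ClSub.idealModι I)) x u) :=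
        Groth.L21.RR.st_comp _ _ x u
      have e2 := Groth.L21.RR.tensorStalkEquiv_natural (ClSub.idealModι I) hb u
      have e3 : ∀ z, st ρ.inv x (st ρ.hom x z) = z := fun z => by
        rw [← Groth.L21.RR.st_comp, Iso.hom_inv_id, st, CategoryTheory.Functor.map_id]
        rfl
      constructor
      · intro hu
        rw [← e2, ← e3 (st (((DCoh.tensorBi (X := X)).obj L).map (ClSub.idealModι I)) x u), ← e1, hu, map_smul,
          map_smul]
        rw [show θ' (st ρ.inv x ex) = ε • one X x from hεv, smul_smul]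
      · intro hu
        rw [← e2, ← smul_smul, ← hεv, ← map_smul, ← map_smul] at hu
        rw [e1, θ'.injective hu, ← Groth.L21.RR.st_comp, Iso.inv_hom_id, st, CategoryTheory.Functor.map_id]
        rfl
    constructor
    · rintro ⟨w, rfl⟩
      obtain ⟨a, rfl⟩ := (Groth.L21.RR.bijective_smul_one x).2 w
      obtain ⟨u, hu⟩ := (Groth.L21.RR.range_st_idealModι I hV hxV ((a * X.presheaf.germ V x hxV c * ε) • one X x)).2
        ⟨_, by
          rw [hI, Ideal.map_span, Set.image_singleton]
          exact Ideal.mul_mem_right _ _ (Ideal.mul_mem_left _ _ (Ideal.subset_span rfl)), rfl⟩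
      refine ⟨θ.symm u, ?_⟩
      show st (twι L I) x (θ.symm u) = st φ x (a • one X x)
      rw [map_smul, hφ, smul_smul]
      exact (key _ _).2 (by rw [LinearEquiv.apply_symm_apply]; exact hu)
    · rintro ⟨u, rfl⟩
      obtain ⟨a, ha⟩ := hb.2 (st (twι L I) x u)
      have h1 := (key u a).1 ha.symm
      obtain ⟨r, hr, hr1⟩ := (Groth.L21.RR.range_st_idealModι I hV hxV _).1 ⟨θ u, h1⟩
      rw [hI, Ideal.map_span, Set.image_singleton] at hr
      obtain ⟨q, hq⟩ := Ideal.mem_span_singleton'.1 hr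
      obtain ⟨εi, hεi⟩ := hεu.exists_right_inv
      have h2 : r = a * ε := (Groth.L21.RR.bijective_smul_one x).1 hr1
      refine ⟨(q * εi) • one X x, ?_⟩
      rw [map_smul, hφ, smul_smul, ← ha]
      show _ = a • ex
      congr 1
      calc q * εi * X.presheaf.germ V x hxV c = (q * X.presheaf.germ V x hxV c) * εi := by ring
        _ = a * (ε * εi) := by rw [hq, h2]; ring
        _ = a := by rw [hεi, mul_one]
  obtain ⟨f, hf⟩ := Groth.L21.RR.exists_lift φ (twι L I) fun y u => (hrange y _).2 ⟨u, rfl⟩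
  obtain ⟨g, hg⟩ := Groth.L21.RR.exists_lift (twι L I) φ fun y w => (hrange y _).1 ⟨w, rfl⟩
  exact ⟨⟨f, g, (cancel_mono (twι L I)).1 (by rw [Category.assoc, hg, hf, Category.id_comp]),
    (cancel_mono φ).1 (by rw [Category.assoc, hf, hg, Category.id_comp])⟩⟩

variable {r : ℕ} {k : Type u} [Field k] {d : ℕ}

/-- The section of `O(d)` attached to a form. -/
def formHom (G : LefPen.Form r k d) :
    Coh.structureModule (CohB1.ProjSpace r k) ⟶ Twist.twistProjSpace r k (d : ℤ) :=
  homOfSection (Twist.twistProjSpace r k (d : ℤ)) (Groth.L16.ProjSpace.polyToSection r k d G)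

/-- The standard frame of `O(d)` on a chart. -/
def chartFrame (d : ℕ) (i : Fin (r + 1)) : Γ(Twist.twistProjSpace r k (d : ℤ), LefPen.chart r k i) :=
  Groth.L16.ProjTwist.posFrame (CohB1.polyGrading r k) d ⟨_, LefPen.X_mem r k i⟩

theorem isFrame_chartFrame (d : ℕ) (i : Fin (r + 1)) :
    IsFrame (Twist.twistProjSpace r k (d : ℤ)) (LefPen.chart r k i) (chartFrame d i) :=
  Groth.L16.ProjTwist.isFrame_posFrame (CohB1.polyGrading r k) d ⟨_, LefPen.X_mem r k i⟩

theorem secOf_formHom (G : LefPen.Form r k d) :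
    Groth.L18.GenLoc.secOf (formHom G) = Groth.L16.ProjSpace.polyToSection r k d G := by
  rw [Groth.L18.GenLoc.secOf, formHom, homOfSection_app, one_smul]
  exact Groth.L18.Frame.rs_self _ _ _

theorem dehom_smul_chartFrame (G : LefPen.Form r k d) (i : Fin (r + 1)) :
    LefPen.dehom G i • chartFrame d i =
      rs (Twist.twistProjSpace r k (d : ℤ)) le_top (Groth.L18.GenLoc.secOf (formHom G)) := by
  rw [secOf_formHom]
  refine Subtype.ext (funext fun x => Subtype.ext ?_)
  refine (Twist.coe_smul_val _ x.1 _ _).trans ?_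
  show _ = (Localization.mk G.1 ⟨1, Groth.L16.ProjTwist.one_notMem _ x.1⟩ : _)
  change _ * Localization.mk (MvPolynomial.X i ^ d) ⟨1, Groth.L16.ProjTwist.one_notMem _ x.1⟩ = _
  erw [ProjectiveSpectrum.Proj.awayToSection_apply, HomogeneousLocalization.Away.val_mk]
  rw [Localization.mk_eq_mk', IsLocalization.map_mk']
  erw [← Localization.mk_eq_mk', Localization.mk_mul]
  simp only [RingHom.id_apply]
  rw [Localization.mk_eq_mk_iff, Localization.r_iff_exists]
  exact ⟨1, by simp [mul_comm]⟩

theorem isAffineOpen_chart (i : Fin (r + 1)) : IsAffineOpen (LefPen.chart r k i) :=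
  Proj.isAffineOpen_basicOpen _ _ (LefPen.X_mem r k i) one_pos

theorem exists_mem_chart (x : CohB1.ProjSpace r k) : ∃ i, x ∈ LefPen.chart r k i :=
  Groth.L16.ProjSpace.exists_mem_basicOpen_X r k x

/-- The ideal of a hypersurface on a chart. -/
theorem hypIdeal_chart (G : LefPen.Form r k d) (i : Fin (r + 1)) :
    (LefPen.hypIdeal G).ideal ⟨LefPen.chart r k i, isAffineOpen_chart i⟩ = Ideal.span {LefPen.dehom G i} := by
  set L := Twist.twistProjSpace r k (d : ℤ)
  have hL : PicF.IsInvertible L := Groth.L16.ProjTwist.isInvertible_twistProjSpace r k d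
  refine le_antisymm ((Scheme.IdealSheafData.ideal_ofIdeals_le _ _).trans ?_) ?_
  · intro a ha
    have h1 := Ideal.mem_iInf.1 ha i
    rw [Ideal.mem_comap, Ideal.mem_span_singleton'] at h1
    obtain ⟨b, hb⟩ := h1
    have hle : LefPen.chart r k i ≤ LefPen.chart r k i ⊓ LefPen.chart r k i := le_inf le_rfl le_rfl
    refine Ideal.mem_span_singleton'.2 ⟨ro hle b, ?_⟩
    have h2 := congrArg (ro hle) hb
    have h3 : ∀ (z : Γ(CohB1.ProjSpace r k, LefPen.chart r k i)) (h' : LefPen.chart r k i ⊓ LefPen.chart r k i ≤ LefPen.chart r k i),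
        ro hle (ro h' z) = z := fun z h' => (Groth.L18.Frame.ro_ro _ _ _).trans (Groth.L18.Frame.ro_self _ _)
    refine (congrArg (ro hle b * ·) (h3 _ inf_le_right).symm).trans ?_
    refine Eq.trans ?_ (h3 a inf_le_left)
    exact (map_mul _ _ _).symm.trans h2
  · haveI : Coh.IsQCoh L := Groth.L21.Extend.isQCoh_of_isInvertible hL
    let J : (CohB1.ProjSpace r k).IdealSheafData :=
      { ideal := fun U => Groth.L22.ZeroScheme.idealOn (formHom G) U.1
        map_ideal_basicOpen := fun U f =>
          Groth.L22.ZeroScheme.map_idealOn (Groth.L18.Ample.isFT_of_isInvertible hL) (formHom G) U.2 f }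
    have hJ : J ≤ LefPen.hypIdeal G := by
      refine Scheme.IdealSheafData.le_ofIdeals_iff.2 fun U a ha => Ideal.mem_iInf.2 fun j => ?_
      rw [Ideal.mem_comap]
      haveI : (CohB1.ProjSpace r k).IsSeparated := ⟨by rw [← terminal.comp_from (CohB1.ProjSpace.toSpec r k)]; infer_instance⟩
      have hV : IsAffineOpen (U.1 ⊓ LefPen.chart r k j) := U.2.inf (isAffineOpen_chart j)
      have h1 : ro (inf_le_left : U.1 ⊓ LefPen.chart r k j ≤ U.1) a ∈ J.ideal ⟨_, hV⟩ := by
        rw [← J.map_ideal (U := ⟨U.1 ⊓ LefPen.chart r k j, hV⟩) (V := U) (inf_le_left (b := LefPen.chart r k j))]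
        exact Ideal.mem_map_of_mem _ ha
      obtain ⟨b, hb⟩ := (Groth.L22.ZeroScheme.mem_idealOn_iff _ _ _).1 h1 (rs L inf_le_right (chartFrame d j))
      rw [← Groth.L18.Frame.rs_rs L (le_top : LefPen.chart r k j ≤ ⊤) (inf_le_right : U.1 ⊓ LefPen.chart r k j ≤ _),
        ← dehom_smul_chartFrame G j, Groth.L18.Frame.rs_smul, smul_smul] at hb
      have hab : ro (inf_le_left : U.1 ⊓ LefPen.chart r k j ≤ U.1) a =
          b * ro (inf_le_right : U.1 ⊓ LefPen.chart r k j ≤ _) (LefPen.dehom G j) :=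
        ((isFrame_chartFrame d j).mono (inf_le_right : U.1 ⊓ LefPen.chart r k j ≤ _)).inj le_rfl
          (by rw [Groth.L18.Frame.rs_self]; exact hb)
      exact Ideal.mem_span_singleton'.2 ⟨b, hab.symm⟩
    refine le_trans ?_ (hJ _)
    rw [Ideal.span_singleton_le_iff_mem]
    refine (Groth.L22.ZeroScheme.mem_idealOn_iff _ _ _).2 fun m => ?_
    obtain ⟨c, hc⟩ := (isFrame_chartFrame d i).exists_coeff le_rfl m
    rw [Groth.L18.Frame.rs_self] at hc
    exact ⟨c, by rw [← hc, smul_comm, dehom_smul_chartFrame]⟩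

theorem mono_formHom {G : LefPen.Form r k d} (hG : G ≠ 0) : Mono (formHom G) := by
  haveI : IsIntegral (CohB1.ProjSpace r k) := Groth.L16.ProjSpace.isIntegral (n := r) (R := k)
  refine Groth.L21.RR.mono_of_ne_zero (Groth.L16.ProjTwist.isInvertible_twistProjSpace r k d) fun h => hG ?_
  refine Groth.L16.ProjSpace.polyToSection_injective d ?_
  rw [← secOf_formHom, h]
  refine Eq.trans rfl ?_
  refine Subtype.ext (funext fun x => Subtype.ext ?_)
  rw [Groth.L16.ProjSpace.polyToSection_apply]
  exact (Localization.mk_zero _).symm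

/-- The ideal of a hypersurface of degree `d` is `O(-d)`. -/
theorem nonempty_idealMod_iso {G : LefPen.Form r k d} (hG : G ≠ 0) :
    Nonempty (ClSub.idealMod (LefPen.hypIdeal G) ≅ Twist.twistProjSpace r k (-(d : ℤ))) := by
  haveI := mono_formHom hG
  have hL : PicF.IsInvertible (Twist.twistProjSpace r k (d : ℤ)) :=
    Groth.L16.ProjTwist.isInvertible_twistProjSpace r k d
  obtain ⟨e⟩ := nonempty_iso_of_range (LefPen.hypIdeal G) hL (formHom G) fun x => by
    obtain ⟨i, hi⟩ := exists_mem_chart x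
    exact ⟨_, isAffineOpen_chart i, hi, chartFrame d i, LefPen.dehom G i, isFrame_chartFrame d i,
      dehom_smul_chartFrame G i, hypIdeal_chart G i⟩
  obtain ⟨a⟩ := Groth.L22.Reg.nonempty_O_add (n := r) (R := k) (show -(d : ℤ) + d = 0 by omega)
  obtain ⟨b⟩ := Groth.L22.Reg.nonempty_O_zero r k
  open Groth.L00.Tensor in
  exact ⟨(tensorUnitLeft _).symm ≪≫ tensorIso (a ≪≫ b).symm (Iso.refl _) ≪≫ tensorAssoc _ _ _ ≪≫
    tensorIso (Iso.refl _) e ≪≫ tensorUnitRight _⟩

end Groth.L21.PlaneCurve
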