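import Groth.Agent.L15.SmoothCrit
import Mathlib.RingTheory.Kaehler.Polynomial
import Mathlib.RingTheory.Smooth.Locus
import Mathlib.RingTheory.MvPolynomial.Basic
import Mathlib.RingTheory.Polynomial.Basic

/-!
The Jacobian criterion for an affine hypersurface over a field.
-/

set_option autoImplicit false
set_option backward.isDefEq.respectTransparency false
universe u

open scoped TensorProduct
open MvPolynomial KaehlerDifferential Groth.L15.SmoothCrit

namespace Groth.L21.Jacobian

variable {k : Type u} [Field k] {σ : Type} [Finite σ]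

theorem dFib_eq_zero_iff (q : Ideal (MvPolynomial σ k)) [q.IsPrime] (g : MvPolynomial σ k) :
    dFib (A := k) q g = 0 ↔ ∀ j, pderiv j g ∈ q := by
  let b := (KaehlerDifferential.mvPolynomialBasis k σ).baseChange q.ResidueField
  have h : ∀ j, b.repr (dFib (A := k) q g) j = algebraMap _ q.ResidueField (pderiv j g) := fun j => by
    simp only [b, dFib, Module.Basis.baseChange_repr_tmul, mvPolynomialBasis_repr_apply]
    rw [Algebra.smul_def, mul_one]
  rw [← b.repr.map_eq_zero_iff, Finsupp.ext_iff]
  refine forall_congr' fun j => ?_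
  rw [h, Finsupp.zero_apply, Ideal.algebraMap_residueField_eq_zero]

/-- An affine hypersurface is smooth iff the equation and its partial derivatives have no common zero. -/
theorem smooth_quot_iff {R : Type u} [CommRing R] [Algebra k R] (θ : MvPolynomial σ k →ₐ[k] R)
    (hθ : Function.Surjective θ) (g : MvPolynomial σ k) (hg : g ≠ 0)
    (hker : RingHom.ker θ = Ideal.span {g}) :
    Algebra.Smooth k R ↔ ∀ q : Ideal (MvPolynomial σ k), q.IsPrime → g ∈ q → ∃ j, pderiv j g ∉ q := by
  classical
  letI := θ.toRingHom.toAlgebra
  haveI : IsScalarTower k (MvPolynomial σ k) R := IsScalarTower.of_algebraMap_eq fun a => (θ.commutes a).symm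
  have hker' : RingHom.ker (algebraMap (MvPolynomial σ k) R) = Ideal.span {g} := hker
  have hfg : (RingHom.ker (algebraMap (MvPolynomial σ k) R)).FG := by
    rw [hker']; exact Submodule.fg_span_singleton g
  haveI : Algebra.FinitePresentation k R := Algebra.FinitePresentation.of_surjective hθ (by
    show (RingHom.ker θ).FG
    rw [hker]; exact Submodule.fg_span_singleton g)
  haveI : Algebra.Smooth k (MvPolynomial σ k) := ⟨inferInstance, inferInstance⟩
  have hdom : ∀ (q : Ideal (MvPolynomial σ k)) [q.IsPrime],
      Function.Injective (algebraMap (MvPolynomial σ k) (Localization.AtPrime q)) := fun q _ =>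
    IsLocalization.injective _ q.primeCompl_le_nonZeroDivisors
  constructor
  · intro hsm q hq hgq
    by_contra hall
    push Not at hall
    let p := q.map (algebraMap (MvPolynomial σ k) R)
    have hle : RingHom.ker (algebraMap (MvPolynomial σ k) R) ≤ q := by
      rw [hker', Ideal.span_singleton_le_iff_mem]; exact hgq
    haveI : p.IsPrime := Ideal.map_isPrime_of_surjective hθ hle
    have hqp : q = p.comap (algebraMap (MvPolynomial σ k) R) := by
      show q = (q.map (algebraMap (MvPolynomial σ k) R)).comap _
      rw [Ideal.comap_map_of_surjective (algebraMap (MvPolynomial σ k) R) hθ, ← RingHom.ker_eq_comap_bot, sup_eq_left.2 hle]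
    obtain ⟨s, hs, hspan, hli⟩ := (smoothAt_iff (A := k) hθ hfg p q hqp).1
      (by
        have := Algebra.smoothLocus_eq_univ (R := k) (A := R)
        exact (Set.eq_univ_iff_forall.1 this) ⟨p, inferInstance⟩)
    have hs0 : s = ∅ := Finset.eq_empty_of_forall_notMem fun x hx => by
      have hxg : x ∈ Ideal.span {g} := hker' ▸ hs hx
      obtain ⟨c, rfl⟩ := Ideal.mem_span_singleton'.1 hxg
      exact hli.ne_zero ⟨_, hx⟩ ((dFib_eq_zero_iff q _).2 fun j => by
        rw [Derivation.leibniz, smul_eq_mul, smul_eq_mul]
        exact add_mem (q.mul_mem_left _ (hall j)) (q.mul_mem_right _ hgq))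
    subst hs0
    rw [Finset.coe_empty, Set.image_empty, Ideal.span_empty, hker', Ideal.map_span, Set.image_singleton,
      Ideal.span_singleton_eq_bot] at hspan
    exact hg (hdom q (by rw [hspan, map_zero]))
  · intro h
    refine ⟨Algebra.smoothLocus_eq_univ_iff.1 (Set.eq_univ_iff_forall.2 fun p => ?_), inferInstance⟩
    let q := p.asIdeal.comap (algebraMap (MvPolynomial σ k) R)
    have hgq : g ∈ q := by
      have : g ∈ RingHom.ker (algebraMap (MvPolynomial σ k) R) := by rw [hker']; exact Ideal.subset_span rfl
      show algebraMap (MvPolynomial σ k) R g ∈ p.asIdeal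
      rw [RingHom.mem_ker.1 this]
      exact zero_mem _
    obtain ⟨j, hj⟩ := h q inferInstance hgq
    refine (smoothAt_iff (A := k) hθ hfg p.asIdeal q rfl).2 ⟨{g}, ?_, ?_, ?_⟩
    · intro x hx
      rw [Finset.coe_singleton, Set.mem_singleton_iff] at hx
      subst hx
      rw [hker']; exact Ideal.subset_span rfl
    · rw [hker', Ideal.map_span, Finset.coe_singleton]
    · haveI : Subsingleton ↥({g} : Finset (MvPolynomial σ k)) :=
        ⟨fun a b => Subtype.ext ((Finset.mem_singleton.1 a.2).trans (Finset.mem_singleton.1 b.2).symm)⟩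
      refine LinearIndependent.of_subsingleton ⟨g, Finset.mem_singleton_self g⟩ ?_
      exact fun h0 => hj ((dFib_eq_zero_iff q g).1 h0 j)

end Groth.L21.Jacobian
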