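import Groth.Agent.L21.PlaneCurve.HypIdeal
import Groth.Agent.L21.PlaneCurve.Jacobian
import Groth.Agent.L16.ProjSpace.CoordSect
import Mathlib.AlgebraicGeometry.Morphisms.Smooth
import Mathlib.AlgebraicGeometry.IdealSheaf.Functorial

/-!
Smoothness of projective hypersurfaces on the standard charts.
-/

set_option autoImplicit false
set_option backward.isDefEq.respectTransparency false
set_option linter.style.haveILetI false
universe u

open CategoryTheory CategoryTheory.Limits AlgebraicGeometry TopologicalSpace Opposite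

noncomputable section

namespace Groth.L21.PlaneCurve

theorem ideal_comap_top {X Y : Scheme.{u}} [IsAffine X] (I : Y.IdealSheafData) (c : X ⟶ Y) [IsOpenImmersion c]
    {V : Y.Opens} (hV : IsAffineOpen V) (hVc : c.opensRange = V) (hW : (⊤ : X.Opens) ≤ c ⁻¹ᵁ V)
    {d : Γ(Y, V)} (hI : I.ideal ⟨V, hV⟩ = Ideal.span {d}) :
    (I.comap c).ideal ⟨⊤, isAffineOpen_top X⟩ = Ideal.span {c.appLE V ⊤ hW d} := by
  rw [← c.image_top_eq_opensRange] at hVc
  subst hVc
  rw [Scheme.IdealSheafData.ideal_comap_of_isOpenImmersion, hI]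
  set e := (c.appIso ⊤).commRingCatIsoToRingEquiv with he
  have h1 : c.appLE (c ''ᵁ ⊤) ⊤ hW d = e d := by
    rw [he]
    show _ = (c.appIso ⊤).hom d
    rw [Scheme.Hom.appIso_hom']
  rw [h1]
  show Ideal.comap e.symm (Ideal.span {d}) = _
  rw [← Ideal.map_comap_of_equiv (f := e), Ideal.map_span, Set.image_singleton]
  rfl

/-- A closed subscheme of an affine scheme is smooth iff its ring is. -/
theorem smooth_spec_sub_iff {k P : Type u} [Field k] [CommRing P] [Algebra k P]
    (J : (Spec (CommRingCat.of P)).IdealSheafData) {g : P}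
    (hJ : J.ideal ⟨⊤, isAffineOpen_top _⟩ = Ideal.span {(Scheme.ΓSpecIso (CommRingCat.of P)).inv g}) :
    Smooth (J.subschemeι ≫ Spec.map (CommRingCat.ofHom (algebraMap k P))) ↔
      Algebra.Smooth k (P ⧸ Ideal.span {g}) := by
  haveI : IsAffine J.subscheme := isAffine_of_isAffineHom J.subschemeι
  rw [HasRingHomProperty.iff_of_isAffine (P := @Smooth)]
  let T : (Spec (CommRingCat.of P)).affineOpens := ⟨⊤, isAffineOpen_top _⟩
  let θ : P →+* Γ(J.subscheme, ⊤) :=
    (J.subschemeι.appTop).hom.comp (Scheme.ΓSpecIso (CommRingCat.of P)).inv.hom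
  have hsurj : Function.Surjective θ :=
    (J.subschemeι_app_surjective T).comp (ConcreteCategory.bijective_of_isIso
      (Scheme.ΓSpecIso (CommRingCat.of P)).inv).2
  have hker : RingHom.ker θ = Ideal.span {g} := by
    show RingHom.ker ((J.subschemeι.app T.1).hom.comp _) = _
    rw [← RingHom.comap_ker, J.ker_subschemeι_app T, hJ]
    set e := (Scheme.ΓSpecIso (CommRingCat.of P)).commRingCatIsoToRingEquiv
    show Ideal.comap e.symm (Ideal.span {e.symm g}) = _
    rw [← Ideal.map_comap_of_equiv (f := e), Ideal.map_span, Set.image_singleton]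
    congr 2
    exact e.apply_symm_apply g
  have hf : (Scheme.ΓSpecIso (CommRingCat.of k)).inv ≫
      (J.subschemeι ≫ Spec.map (CommRingCat.ofHom (algebraMap k P))).appTop =
      CommRingCat.ofHom (θ.comp (algebraMap k P)) := by
    rw [Scheme.Hom.comp_appTop, ← Category.assoc]
    erw [← Scheme.ΓSpecIso_inv_naturality]
    rw [Category.assoc]
    rfl
  letI := (θ.comp (algebraMap k P)).toAlgebra
  have h1 : RingHom.Smooth ((J.subschemeι ≫ Spec.map (CommRingCat.ofHom (algebraMap k P))).appTop).hom ↔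
      Algebra.Smooth k Γ(J.subscheme, ⊤) := by
    rw [← RingHom.smooth_algebraMap, RingHom.algebraMap_toAlgebra,
      show θ.comp (algebraMap k P) = ((Scheme.ΓSpecIso (CommRingCat.of k)).inv ≫
        (J.subschemeι ≫ Spec.map (CommRingCat.ofHom (algebraMap k P))).appTop).hom by rw [hf]; rfl]
    exact (RingHom.Smooth.respectsIso.cancel_left_isIso _ _).symm
  rw [h1]
  let θa : P →ₐ[k] Γ(J.subscheme, ⊤) := { θ with commutes' := fun _ => rfl }
  let e : (P ⧸ Ideal.span {g}) ≃ₐ[k] Γ(J.subscheme, ⊤) :=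
    (Ideal.quotientEquivAlgOfEq k hker.symm).trans (Ideal.quotientKerAlgEquivOfSurjective (f := θa) hsurj)
  exact ⟨fun _ => Algebra.Smooth.of_equiv e.symm, fun _ => Algebra.Smooth.of_equiv e⟩

variable {r : ℕ} {k : Type u} [Field k] {d : ℕ}

theorem chart_appLE_dehom (G : LefPen.Form r k d) (i : Fin (r + 1))
    (hW : ⊤ ≤ Groth.L16.ProjSpace.chart r k i ⁻¹ᵁ LefPen.chart r k i) :
    (Groth.L16.ProjSpace.chart r k i).appLE (LefPen.chart r k i) ⊤ hW (LefPen.dehom G i) =
      (Scheme.ΓSpecIso (CommRingCat.of (MvPolynomial (Groth.L16.ProjSpace.ChartVar r i) k))).inv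
        (Groth.L16.ProjSpace.dehom r k i G.1) := by
  open Groth.L16.ProjSpace in
  let φ := CommRingCat.ofHom (awayEquiv r k i).symm.toRingHom
  open Groth.L16.ProjSpace in
  have h1 : ⊤ ≤ chartAway r k i ⁻¹ᵁ LefPen.chart r k i := fun z _ =>
    (opensRange_chartAway r k i).le ⟨z, rfl⟩
  open Groth.L16.ProjSpace in
  rw [show (chart r k i).appLE (LefPen.chart r k i) ⊤ hW =
    (chartAway r k i).appLE (LefPen.chart r k i) ⊤ h1 ≫ (Spec.map φ).appLE ⊤ ⊤ le_top from
      (Scheme.Hom.appLE_comp_appLE (Spec.map φ) (chartAway r k i) _ ⊤ ⊤ h1 le_top).symm, CommRingCat.comp_apply,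
    show (Spec.map φ).appLE ⊤ ⊤ le_top = (Spec.map φ).appTop from (Scheme.Hom.app_eq_appLE _).symm]
  set w := HomogeneousLocalization.Away.mk (CohB1.polyGrading r k) (LefPen.X_mem r k i) d G.1
    (by rw [smul_eq_mul, mul_one]; exact G.2) with hw
  have e2 := congr($(Groth.L16.ProjSpace.chartAway_appLE r k i h1) w)
  refine (congrArg ((Spec.map φ).appTop) e2).trans ?_
  refine (congr($(Scheme.ΓSpecIso_inv_naturality φ) w)).symm.trans ?_
  refine congrArg (Scheme.ΓSpecIso (CommRingCat.of (MvPolynomial (Groth.L16.ProjSpace.ChartVar r i) k))).inv ?_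
  show (Groth.L16.ProjSpace.awayEquiv r k i).symm w = _
  rw [RingEquiv.symm_apply_eq]
  refine HomogeneousLocalization.val_injective _ ?_
  rw [hw, HomogeneousLocalization.Away.val_mk, Localization.mk_eq_mk']
  refine IsLocalization.mk'_eq_iff_eq_mul.2 ?_
  exact (Groth.L16.ProjSpace.toAway_dehom_mul r k i G.2).symm

/-- Smoothness of a hypersurface is read off on the standard charts. -/
theorem smooth_hyp_iff (G : LefPen.Form r k d) :
    Smooth ((LefPen.hypIdeal G).subschemeι ≫ CohB1.ProjSpace.toSpec r k) ↔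
      ∀ i, Algebra.Smooth k (MvPolynomial (Groth.L16.ProjSpace.ChartVar r i) k ⧸
        Ideal.span {Groth.L16.ProjSpace.dehom r k i G.1}) := by
  set I := LefPen.hypIdeal G
  rw [IsZariskiLocalAtSource.iff_of_openCover (P := @Smooth)
    ((Groth.L16.ProjSpace.chartCover r k).pullback₁ I.subschemeι)]
  refine forall_congr' fun i => ?_
  change Smooth (pullback.fst I.subschemeι (Groth.L16.ProjSpace.chart r k i) ≫
    I.subschemeι ≫ CohB1.ProjSpace.toSpec r k) ↔ _
  set c := Groth.L16.ProjSpace.chart r k i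
  have hsq : ((I.comapIso c).hom ≫ (pullbackSymmetry c I.subschemeι).hom) ≫
      pullback.fst I.subschemeι c ≫ I.subschemeι ≫ CohB1.ProjSpace.toSpec r k =
      (I.comap c).subschemeι ≫ Spec.map (CommRingCat.ofHom
        (algebraMap k (MvPolynomial (Groth.L16.ProjSpace.ChartVar r i) k))) := by
    rw [Category.assoc, pullbackSymmetry_hom_comp_fst_assoc, ← pullback.condition_assoc,
      Scheme.IdealSheafData.comapIso_hom_fst_assoc, MvPolynomial.algebraMap_eq]
    rw [show c = Groth.L16.ProjSpace.chart r k i from rfl, Groth.L16.ProjSpace.chart_toSpec]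
  rw [← MorphismProperty.cancel_left_of_respectsIso @Smooth
    ((I.comapIso c).hom ≫ (pullbackSymmetry c I.subschemeι).hom), hsq]
  refine smooth_spec_sub_iff _ ?_
  have hW : (⊤ : (Spec _).Opens) ≤ c ⁻¹ᵁ LefPen.chart r k i := fun z _ =>
    (Groth.L16.ProjSpace.opensRange_chart r k i).le ⟨z, rfl⟩
  rw [ideal_comap_top I c (isAffineOpen_chart i) (Groth.L16.ProjSpace.opensRange_chart r k i) hW
    (hypIdeal_chart G i), chart_appLE_dehom]

end Groth.L21.PlaneCurve
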