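import Groth.Agent.L21.Duality.Generic
import Groth.Agent.L21.RR.Coh
import Groth.Agent.L18.AmplePull
import Groth.Agent.L18.ClosedImmCrit
import Groth.Agent.L19.ProjBdl.Basis
import Groth.Agent.L22.Cyc.FiniteDeg

/-!
An embedded curve cannot have all its hyperplane sections pulled back along a cover.
-/

set_option autoImplicit false
set_option backward.isDefEq.respectTransparency false
set_option linter.style.haveILetI false
universe u

open CategoryTheory CategoryTheory.Limits AlgebraicGeometry TopologicalSpace Opposite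

noncomputable section

namespace Groth.L21.PlaneCurve

open Groth.L18.Frame (rs ro rs_rs rs_self rs_smul IsFrame pull pull_rs pull_smul)
open Groth.L18.GenLoc (tens tens_rs tens_smul_left isFrame_tens)
open Groth.L21.Duality (gη γη gη_smul gη_rs γη_ro gη_injective generic_mem)
open Groth.L21.RR (h e0 e0_smul)

variable {C P : Scheme.{u}} [IsIntegral C] [IsIntegral P] (φ : C ⟶ P)

/-- The image of the field of `P` in the field of `C`. -/
abbrev imF : Subring C.functionField := (φ.stalkMap (genericPoint C)).hom.range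

/-- The generic germ of a global section. -/
abbrev gtop (L : C.Modules) (σ : Γ(L, ⊤)) : L.presheaf.stalk (genericPoint C) :=
  gη L (V := ⊤) trivial σ

theorem gtop_eq (L : C.Modules) {W : C.Opens} (hW : genericPoint C ∈ W) (σ : Γ(L, ⊤)) :
    gtop L σ = gη L hW (rs L le_top σ) := (gη_rs L (le_top : W ≤ ⊤) hW σ).symm

theorem isField_stalk (hdom : φ (genericPoint C) = genericPoint P) :
    IsField (P.presheaf.stalk (φ (genericPoint C))) := by
  rw [hdom]; exact Field.toIsField P.functionField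

theorem eq_zero_of_stalkMap_eq_zero (hdom : φ (genericPoint C) = genericPoint P)
    {x : P.presheaf.stalk (φ (genericPoint C))} (hx : (φ.stalkMap (genericPoint C)).hom x = 0) : x = 0 := by
  by_contra hne
  obtain ⟨y, hy⟩ := (isField_stalk φ hdom).mul_inv_cancel hne
  have h1 := congrArg (φ.stalkMap (genericPoint C)).hom hy
  rw [map_mul, hx, zero_mul, map_one] at h1
  exact zero_ne_one h1

theorem γη_app_mem {V : P.Opens} (hV : genericPoint C ∈ φ ⁻¹ᵁ V) (b : Γ(P, V)) :
    γη hV (φ.app V b) ∈ imF φ :=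
  ⟨P.presheaf.germ V (φ (genericPoint C)) hV b, Scheme.Hom.germ_stalkMap_apply φ V _ hV b⟩

theorem gη_frame_ne_zero {M : C.Modules} {W : C.Opens} {e : Γ(M, W)} (he : IsFrame M W e)
    (hη : genericPoint C ∈ W) : gη M hη e ≠ 0 := fun h0 =>
  one_ne_zero (α := C.functionField) ((Groth.L21.RR.bijective_germ_frame he hη).1 (a₁ := 1) (a₂ := 0)
    (by show (1 : C.functionField) • gη M hη e = (0 : C.functionField) • gη M hη e
        rw [h0, smul_zero, smul_zero]))

theorem germ_ne_zero_of_generic (hdom : φ (genericPoint C) = genericPoint P) {V : P.Opens}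
    (hV : φ (genericPoint C) ∈ V) {b : Γ(P, V)} (hb : b ≠ 0) :
    P.presheaf.germ V (φ (genericPoint C)) hV b ≠ 0 := fun h0 => hb (by
  haveI : Nonempty V := ⟨⟨_, hV⟩⟩
  have h1 : P.presheaf.germ V (genericPoint P) (hdom ▸ hV) b = 0 := by
    have h2 := congrArg (P.presheaf.stalkSpecializes (specializes_of_eq hdom.symm)) h0
    rw [map_zero] at h2
    rw [← h2]
    exact (ConcreteCategory.congr_hom (P.presheaf.germ_stalkSpecializes hV (specializes_of_eq hdom.symm)) b).symm
  exact germ_injective_of_isIntegral P (genericPoint P) (hdom ▸ hV) (h1.trans (map_zero _).symm))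

section Psi

variable {N : P.Modules} {E L : C.Modules}
  (ε : CohB1.tensorMod ((Scheme.Modules.pullback φ).obj N) E ≅ L) (s : Γ(E, ⊤))

/-- Pull a section back and multiply by a fixed section. -/
def psi (q : Γ(N, ⊤)) : Γ(L, ⊤) :=
  ε.hom.app ⊤ (tens ((Scheme.Modules.pullback φ).obj N) E ⊤ (pull φ N ⊤ q) s)

theorem psi_add (q q' : Γ(N, ⊤)) : psi φ ε s (q + q') = psi φ ε s q + psi φ ε s q' := by
  have h1 : pull φ N ⊤ (q + q') = pull φ N ⊤ q + pull φ N ⊤ q' := map_add _ _ _
  rw [psi, h1, psi, psi, ← map_add]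
  congr 1
  exact Groth.L00.Tensor.ev_add₁ _ _ _ _ _

theorem psi_smul (r : Γ(P, ⊤)) (q : Γ(N, ⊤)) :
    psi φ ε s (r • q) = (show Γ(C, ⊤) from φ.app ⊤ r) • psi φ ε s q := by
  rw [psi, pull_smul]
  refine (congrArg (ε.hom.app ⊤) (tens_smul_left (L := (Scheme.Modules.pullback φ).obj N) (M := E) (U := ⊤) (φ.app ⊤ r) _ s)).trans ?_
  exact Scheme.Modules.Hom.app_smul _ _ _

theorem exists_local (hN : PicF.IsInvertible N) (hE : PicF.IsInvertible E) (hs : s ≠ 0)
    (hdom : φ (genericPoint C) = genericPoint P) :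
    ∃ w : L.presheaf.stalk (genericPoint C), w ≠ 0 ∧
      (∀ q, ∃ c ∈ imF φ, gtop L (psi φ ε s q) = c • w) ∧
      (∀ q, q ≠ 0 → gtop L (psi φ ε s q) ≠ 0) := by
  obtain ⟨V, e, hηV, he⟩ := Groth.L18.Frame.exists_frame hN (φ (genericPoint C))
  obtain ⟨U, f, hηU, hf⟩ := Groth.L18.Frame.exists_frame hE (genericPoint C)
  let W : C.Opens := φ ⁻¹ᵁ V ⊓ U
  have hW : genericPoint C ∈ W := ⟨hηV, hηU⟩
  let p := rs ((Scheme.Modules.pullback φ).obj N) (inf_le_left : W ≤ φ ⁻¹ᵁ V) (pull φ N V e)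
  let g := rs E (inf_le_right : W ≤ U) f
  have hp : IsFrame ((Scheme.Modules.pullback φ).obj N) W p := (IsFrame.pullback φ N he).mono inf_le_left
  have hg : IsFrame E W g := hf.mono inf_le_right
  let t := ε.hom.app W (tens _ _ W p g)
  have ht : gη L hW t ≠ 0 := by
    intro h0
    refine gη_frame_ne_zero (isFrame_tens hp hg) hW ?_
    have h1 : gη _ hW (ε.inv.app W t) = 0 :=
      (Groth.L21.RR.st_germ ε.inv hW t).symm.trans ((congrArg _ h0).trans (map_zero _))
    rw [← h1]
    exact congrArg (gη _ hW) (congr($(congrArg (fun k => Scheme.Modules.Hom.app k W) ε.hom_inv_id) (tens _ _ W p g))).symm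
  obtain ⟨a, ha⟩ := hg.exists_coeff le_rfl (rs E (le_top : W ≤ ⊤) s)
  rw [rs_self] at ha
  have ha0 : γη hW a ≠ 0 := fun h0 => hs (gη_injective hE (V := ⊤) (trivial : genericPoint C ∈ (⊤ : C.Opens)) (by
    rw [← gη_rs E (le_top : W ≤ ⊤) hW s, ← ha, gη_smul, h0, zero_smul]
    exact (map_zero _).symm))
  have key : ∀ q : Γ(N, ⊤), ∀ b : Γ(P, V), b • e = rs N le_top q →
      gtop L (psi φ ε s q) = γη (show genericPoint C ∈ φ ⁻¹ᵁ V from hηV) (φ.app V b) • (γη hW a • gη L hW t) :=
      fun q b hb => by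
    rw [gtop_eq L hW, psi, ← Groth.L19.ProjBdl.app_rs, tens_rs, ← ha]
    have hq : rs ((Scheme.Modules.pullback φ).obj N) (le_top : W ≤ ⊤) (pull φ N ⊤ q) =
        ro (inf_le_left : W ≤ φ ⁻¹ᵁ V) (φ.app V b) • p := by
      rw [← rs_smul, ← pull_smul, hb, ← pull_rs φ N (le_top : V ≤ ⊤) q, rs_rs]
      rfl
    rw [hq, tens_smul_left]
    have h2 : tens ((Scheme.Modules.pullback φ).obj N) E W p (a • g) =
        a • tens ((Scheme.Modules.pullback φ).obj N) E W p g :=
      Groth.L00.Tensor.ev_smul₂ _ _ _ _ _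
    rw [h2, Scheme.Modules.Hom.app_smul, Scheme.Modules.Hom.app_smul, gη_smul, gη_smul, γη_ro]
  refine ⟨γη hW a • gη L hW t, smul_ne_zero ha0 ht, fun q => ?_, fun q hq => ?_⟩
  · obtain ⟨b, hb⟩ := he.exists_coeff le_rfl (rs N le_top q)
    rw [rs_self] at hb
    exact ⟨_, γη_app_mem φ (show genericPoint C ∈ φ ⁻¹ᵁ V from hηV) b, key q b hb⟩
  · obtain ⟨b, hb⟩ := he.exists_coeff le_rfl (rs N le_top q)
    rw [rs_self] at hb
    rw [key q b hb]
    refine smul_ne_zero (fun h0 => hq ?_) (smul_ne_zero ha0 ht)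
    have hb0 : b = 0 := by
      by_contra hne
      refine germ_ne_zero_of_generic φ hdom hηV hne (eq_zero_of_stalkMap_eq_zero φ hdom ?_)
      exact (Scheme.Hom.germ_stalkMap_apply φ V _ hηV b).trans h0
    have hηP : genericPoint P ∈ V := hdom ▸ hηV
    refine gη_injective hN (V := ⊤) (trivial : genericPoint P ∈ (⊤ : P.Opens)) ?_
    rw [← gη_rs N (le_top : V ≤ ⊤) hηP q, ← hb, hb0, zero_smul]
    exact (map_zero _).trans (map_zero _).symm

variable (k : Type u) [Field k] [C.Over (Spec (CommRingCat.of k))] [P.Over (Spec (CommRingCat.of k))]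
  (hφ : φ ≫ (P ↘ Spec (CommRingCat.of k)) = C ↘ Spec (CommRingCat.of k))

include hφ in
theorem app_toGlobal (c : k) :
    φ.app ⊤ (Coh.toGlobal (P ↘ Spec (CommRingCat.of k)) c) = Coh.toGlobal (C ↘ Spec (CommRingCat.of k)) c :=
  congrArg (fun g : C ⟶ Spec (CommRingCat.of k) => Coh.toGlobal g c) hφ

/-- The linear map on `H^0`. -/
def psiH : Coh.HH P N 0 →ₗ[k] Coh.HH C L 0 where
  toFun x := (e0 L).symm (psi φ ε s (e0 N x))
  map_add' x y := by rw [map_add, psi_add, map_add]
  map_smul' c x := by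
    refine (e0 L).injective ?_
    rw [AddEquiv.apply_symm_apply, e0_smul, psi_smul, RingHom.id_apply, e0_smul, AddEquiv.apply_symm_apply]
    exact congrArg (fun r : Γ(C, ⊤) => r • psi φ ε s (e0 N x)) (app_toGlobal φ k hφ c)

include ε s hφ in
theorem h0_le (hN : PicF.IsInvertible N) (hE : PicF.IsInvertible E) (hs : s ≠ 0)
    (hdom : φ (genericPoint C) = genericPoint P) [Module.Finite k (Coh.HH C L 0)] :
    h k 0 N ≤ h k 0 L := by
  obtain ⟨w, -, -, hinj⟩ := exists_local φ ε s hN hE hs hdom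
  refine LinearMap.finrank_le_finrank_of_injective (f := psiH φ ε s k hφ) ((injective_iff_map_eq_zero _).2 fun x hx => ?_)
  by_contra hne
  refine hinj (e0 N x) (fun h0 => hne ((e0 N).injective (h0.trans (map_zero _).symm))) ?_
  rw [show psi φ ε s (e0 N x) = 0 from (e0 L).symm.injective (hx.trans (map_zero _).symm)]
  exact map_zero _

include ε s hφ in
/-- When there are enough sections on `P`, all sections of `L` have ratios in the field of `P`. -/
theorem exists_mem_imF (hN : PicF.IsInvertible N) (hE : PicF.IsInvertible E) (hs : s ≠ 0)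
    (hdom : φ (genericPoint C) = genericPoint P) [Module.Finite k (Coh.HH C L 0)]
    [Module.Finite k (Coh.HH P N 0)] (hle : h k 0 L ≤ h k 0 N) :
    ∃ w : L.presheaf.stalk (genericPoint C), w ≠ 0 ∧
      ∀ σ : Γ(L, ⊤), ∃ c ∈ imF φ, gtop L σ = c • w := by
  obtain ⟨w, hw, hmem, hinj⟩ := exists_local φ ε s hN hE hs hdom
  have hle' := h0_le φ ε s k hφ hN hE hs hdom
  refine ⟨w, hw, fun σ => ?_⟩
  have hi : Function.Injective (psiH φ ε s k hφ) := (injective_iff_map_eq_zero _).2 fun x hx => by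
    by_contra hne
    refine hinj (e0 N x) (fun h0 => hne ((e0 N).injective (h0.trans (map_zero _).symm))) ?_
    rw [show psi φ ε s (e0 N x) = 0 from (e0 L).symm.injective (hx.trans (map_zero _).symm)]
    exact map_zero _
  obtain ⟨x, hx⟩ := (LinearMap.injective_iff_surjective_of_finrank_eq_finrank (le_antisymm hle' hle)).1 hi ((e0 L).symm σ)
  obtain ⟨c, hc, hq⟩ := hmem (e0 N x)
  exact ⟨c, hc, by rw [← (e0 L).symm.injective hx]; exact hq⟩

end Psi

section Embedded

variable (k : Type u) [Field k] [C.Over (Spec (CommRingCat.of k))] [P.Over (Spec (CommRingCat.of k))]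
  (hφ : φ ≫ (P ↘ Spec (CommRingCat.of k)) = C ↘ Spec (CommRingCat.of k))
  {n : ℕ} (r : C ⟶ Groth.L18.PUP.P n k) [IsClosedImmersion r]
  (hr : r ≫ Groth.L18.PUP.pr n k = C ↘ Spec (CommRingCat.of k))
  {L : C.Modules} (τ : (Scheme.Modules.pullback r).obj (Groth.L18.PUP.O1 n k) ≅ L)

include hφ hr τ in
/-- If the hyperplane sections have ratios in the field of `P`, the cover has degree one. -/
theorem residueDegree_eq_one_of_ratios (hdom : φ (genericPoint C) = genericPoint P)
    (hrat : ∃ w : L.presheaf.stalk (genericPoint C), w ≠ 0 ∧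
      ∀ σ : Γ(L, ⊤), ∃ c ∈ imF φ, gtop L σ = c • w) :
    φ.residueDegree (genericPoint C) = 1 := by
  obtain ⟨w, hw, hσ⟩ := hrat
  let η := genericPoint C
  obtain ⟨i, hi⟩ := Opens.mem_iSup.mp
    ((Groth.L18.PS.iSup_chart (n := n) (R := k)).ge (trivial : r.base η ∈ (⊤ : (Groth.L18.PUP.P n k).Opens)))
  let W : C.Opens := r ⁻¹ᵁ Groth.L18.PUP.D i
  have hηW : η ∈ W := hi
  let M₁ := (Scheme.Modules.pullback r).obj (Groth.L18.PUP.O1 n k)
  let T : Fin (n + 1) → L.presheaf.stalk η := fun j => gtop L (τ.hom.app ⊤ (Groth.L18.PUP.rT r j))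
  have hT : ∀ j, T j = γη hηW (r.app _ (Groth.L18.PUP.cc i j)) • T i := fun j => by
    simp only [T]
    rw [gtop_eq L hηW, gtop_eq L hηW (τ.hom.app ⊤ (Groth.L18.PUP.rT r i)),
      ← gη_smul, ← Groth.L19.ProjBdl.app_rs, ← Groth.L19.ProjBdl.app_rs, ← Scheme.Modules.Hom.app_smul,
      Groth.L18.PUP.rT_smul]
  have hTi : T i ≠ 0 := fun h0 => by
    refine gη_frame_ne_zero (Groth.L18.PUP.rT_frame r i) hηW ?_
    rw [← gtop_eq]
    have h1 : gtop M₁ (τ.inv.app ⊤ (τ.hom.app ⊤ (Groth.L18.PUP.rT r i))) = 0 :=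
      (Groth.L21.RR.st_germ τ.inv (U := (⊤ : C.Opens)) (x := genericPoint C) trivial _).symm.trans
        ((congrArg _ h0).trans (map_zero _))
    rw [← h1]
    exact congrArg (gtop M₁)
      (congr($(congrArg (fun k => Scheme.Modules.Hom.app k ⊤) τ.hom_inv_id) (Groth.L18.PUP.rT r i))).symm
  have hfield : IsField (P.presheaf.stalk (φ η)) := isField_stalk φ hdom
  have hcc : ∀ j, γη hηW (r.app _ (Groth.L18.PUP.cc i j)) ∈ imF φ := fun j => by
    obtain ⟨ci, ⟨ui, rfl⟩, hci⟩ := hσ (τ.hom.app ⊤ (Groth.L18.PUP.rT r i))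
    obtain ⟨cj, ⟨uj, rfl⟩, hcj⟩ := hσ (τ.hom.app ⊤ (Groth.L18.PUP.rT r j))
    have hui : ui ≠ 0 := fun h0 => hTi (by
      show gtop L _ = 0
      rw [hci, h0, map_zero, zero_smul])
    obtain ⟨vi, hvi⟩ := hfield.mul_inv_cancel hui
    refine ⟨vi * uj, ?_⟩
    have h1 := hT j
    simp only [T] at h1
    rw [hci, hcj, smul_smul] at h1
    have h2 := smul_left_injective C.functionField hw h1
    rw [map_mul, h2, ← mul_assoc, mul_comm _ (γη hηW _), mul_assoc, ← map_mul, mul_comm vi, hvi, map_one, mul_one]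
  have hK : ∀ a : Γ(Groth.L18.PUP.P n k, Groth.L18.PUP.D i), γη hηW (r.app _ a) ∈ imF φ := fun a => by
    obtain ⟨q, rfl⟩ := Groth.L18.CIC.eval_surjective i a
    induction q using MvPolynomial.induction_on with
    | C c =>
      rw [MvPolynomial.eval₂Hom_C]
      refine ⟨P.presheaf.germ ⊤ (φ η) trivial (Coh.toGlobal (P ↘ Spec (CommRingCat.of k)) c), ?_⟩
      rw [Scheme.Hom.germ_stalkMap_apply, app_toGlobal φ k hφ]
      have h1 : r.app (Groth.L18.PUP.D i) (Groth.L18.CIC.sD i c) =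
          ro (le_top : W ≤ ⊤) (Coh.toGlobal (C ↘ Spec (CommRingCat.of k)) c) := by
        rw [← hr]
        exact (ConcreteCategory.congr_hom (r.naturality (homOfLE le_top).op)
          (ProjUP.toGlobal (Groth.L18.PUP.pr n k) c))
      rw [h1, γη_ro]
      rfl
    | add p q hp hq => rw [map_add, map_add, map_add]; exact add_mem hp hq
    | mul_X p j hp => rw [map_mul, map_mul, map_mul, MvPolynomial.eval₂Hom_X']; exact mul_mem hp (hcc j)
  have hsurj : Function.Surjective (φ.stalkMap η).hom := fun x => by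
    obtain ⟨z, rfl⟩ := r.stalkMap_surjective η x
    have hD := Proj.isAffineOpen_basicOpen (CohB1.polyGrading n k) (MvPolynomial.X i)
      (Groth.L18.PS.X_mem n i) one_pos
    letI := TopCat.Presheaf.algebra_section_stalk (Groth.L18.PUP.P n k).presheaf (U := Groth.L18.PUP.D i) ⟨r η, hi⟩
    haveI := hD.isLocalization_stalk ⟨r η, hi⟩
    obtain ⟨⟨a, b⟩, hab⟩ := IsLocalization.surj (hD.primeIdealOf ⟨r η, hi⟩).asIdeal.primeCompl z
    have hab' : (r.stalkMap η).hom z * γη hηW (r.app _ b.1) = γη hηW (r.app _ a) := by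
      have h1 := congrArg (r.stalkMap η).hom hab
      rw [map_mul] at h1
      rw [← Scheme.Hom.germ_stalkMap_apply r _ η hi b.1, ← Scheme.Hom.germ_stalkMap_apply r _ η hi a]
      exact h1
    obtain ⟨ua, hua⟩ := hK a
    obtain ⟨ub, hub⟩ := hK b.1
    have hunit : IsUnit (γη hηW (r.app _ b.1)) := by
      have h1 := (IsLocalization.map_units ((Groth.L18.PUP.P n k).presheaf.stalk (r η)) b).map (r.stalkMap η).hom
      rw [← Scheme.Hom.germ_stalkMap_apply r _ η hi b.1]
      exact h1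
    have hub0 : ub ≠ 0 := fun h0 => hunit.ne_zero (by rw [← hub, h0, map_zero])
    obtain ⟨vb, hvb⟩ := hfield.mul_inv_cancel hub0
    refine ⟨ua * vb, ?_⟩
    rw [map_mul, hua, ← hab', ← hub, mul_assoc, ← map_mul, hvb, map_one, mul_one]
  refine Groth.L22.Cyc.residueDegree_eq_one φ η ⟨(φ.residueFieldMap η).hom.injective, fun y => ?_⟩
  obtain ⟨x, rfl⟩ := C.residue_surjective η y
  obtain ⟨v, rfl⟩ := hsurj x
  exact ⟨P.residue _ v, ConcreteCategory.congr_hom (Scheme.residue_residueFieldMap φ η) v⟩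

end Embedded

end Groth.L21.PlaneCurve
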