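import Groth.Agent.L21.PlaneCurve.Plane
import Groth.Agent.L21.PlaneCurve.Factor
import Groth.Agent.L21.Duality.Pencils
import Groth.Agent.L21.Duality.Canonical
import Groth.Agent.L21.Curve.NormalConnected
import Groth.Agent.L21.P1.DoubleCoverApply
import Groth.Agent.L26.AV.DegreeForm
import Groth.Agent.L08.Cube.Inverse
import Groth.Agent.S7640

/-!
Smooth plane curves of degree at least four are not hyperelliptic.
-/

set_option autoImplicit false
set_option backward.isDefEq.respectTransparency false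
set_option linter.style.haveILetI false
universe u

open CategoryTheory CategoryTheory.Limits AlgebraicGeometry TopologicalSpace Opposite

noncomputable section

namespace Groth.L21.PlaneCurve

open Groth.L00.Tensor (tensorIso tensorAssoc tensorComm tensorUnitRight tensorUnitLeft)
open Groth.L21.RR (h e0 finite_HH')
open Groth.L21.P1 (O h_O)

variable {k : Type u} [Field k] {d : ℕ} (G : LefPen.Form 2 k d) (hG : G ≠ 0)
  [(LefPen.hypIdeal G).subscheme.Over (Spec (CommRingCat.of k))]
  (hinst : (LefPen.hypIdeal G).subscheme ↘ Spec (CommRingCat.of k) =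
    (LefPen.hypIdeal G).subschemeι ≫ CohB1.ProjSpace.toSpec 2 k)

include hinst in
theorem isProper_plane : IsProper ((LefPen.hypIdeal G).subscheme ↘ Spec (CommRingCat.of k)) := by
  haveI : IsProper (CohB1.ProjSpace.toSpec 2 k) := properProj k 2
  rw [hinst]
  infer_instance

include hG hinst in
theorem plane_facts (hd : 3 ≤ d) [Smooth ((LefPen.hypIdeal G).subscheme ↘ Spec (CommRingCat.of k))] :
    IsIntegral (LefPen.hypIdeal G).subscheme ∧ topologicalKrullDim (LefPen.hypIdeal G).subscheme = 1 := by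
  haveI := isProper_plane G hinst
  haveI := Groth.L21.RR.isNoetherian_of_proper (X := (LefPen.hypIdeal G).subscheme) k
  haveI := connectedSpace_of_h0_eq_one (h0_structure G hG hinst (by omega))
  refine ⟨Groth.L21.NormalTotal.isIntegral_of_connected fun x =>
    Groth.L21.Smooth.isDomain_stalk ((LefPen.hypIdeal G).subscheme ↘ Spec (CommRingCat.of k)) x,
    le_antisymm ((dim_support_le k (m := 1) _ (support_ne_univ _ (nonempty_idealMod_iso hG))).trans (by norm_num)) ?_⟩
  by_contra hlt
  push Not at hlt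
  haveI : Coh.IsQCoh (Coh.structureModule (LefPen.hypIdeal G).subscheme) :=
    (Groth.L16.CohClosedPush.isCoh_structure (X := (LefPen.hypIdeal G).subscheme)).1
  have hle : topologicalKrullDim (LefPen.hypIdeal G).subscheme ≤ (0 : ℕ) := by
    revert hlt
    generalize topologicalKrullDim (LefPen.hypIdeal G).subscheme = D
    cases D with
    | bot => exact fun _ => bot_le
    | coe a =>
      cases a with
      | top => exact fun h => absurd h (by decide)
      | coe b =>
        intro h
        have : b < 1 := by exact_mod_cast h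
        exact_mod_cast (show b ≤ 0 by omega)
  have h1 := h1_structure G hG hinst
  rw [Groth.L21.RR.h_eq_zero_of_subsingleton k (Groth.L22.Inter.subsingleton_HH_of_dim hle _ one_pos)] at h1
  have h2 : 2 * 1 ≤ (d - 1) * (d - 2) := Nat.mul_le_mul (by omega) (by omega)
  omega

include hG hinst in
theorem line_invariants (hd : 3 ≤ d) :
    h k 0 (OC (LefPen.hypIdeal G) 1) = 3 ∧ h k 1 (OC (LefPen.hypIdeal G) 1) = Nat.choose (d - 2) 2 := by
  refine ⟨?_, ?_⟩
  · rw [h0_OC G hG hinst, Nat.choose_eq_zero_of_lt (show ((1 : ℤ) - (d : ℤ) + 2).toNat < 2 by omega)]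
    rfl
  · rw [h1_OC G hG hinst, Nat.choose_eq_zero_of_lt (show (-(1 : ℤ) - 1).toNat < 2 by omega), Nat.sub_zero]
    congr 1
    omega

include hG hinst in
/-- A finite flat map of degree two whose field contains all ratios of linear forms is impossible. -/
theorem not_ratios_in_double_cover [IsIntegral (LefPen.hypIdeal G).subscheme] {P : Scheme.{u}} [IsIntegral P]
    [IsLocallyNoetherian P]
    [P.Over (Spec (CommRingCat.of k))] (φ : (LefPen.hypIdeal G).subscheme ⟶ P) [IsFinite φ] [Flat φ]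
    (hφ : φ ≫ (P ↘ Spec (CommRingCat.of k)) = (LefPen.hypIdeal G).subscheme ↘ Spec (CommRingCat.of k))
    (hdom : φ (genericPoint (LefPen.hypIdeal G).subscheme) = genericPoint P)
    (hrk : φ.finrank (genericPoint P) = 2)
    (hrat : ∃ w : (OC (LefPen.hypIdeal G) 1).presheaf.stalk (genericPoint (LefPen.hypIdeal G).subscheme), w ≠ 0 ∧
      ∀ σ : Γ(OC (LefPen.hypIdeal G) 1, ⊤), ∃ c ∈ imF φ, gtop _ σ = c • w) : False := by
  haveI : LocallyOfFinitePresentation φ := inferInstance
  have h1 := residueDegree_eq_one_of_ratios φ k hφ (n := 2) (LefPen.hypIdeal G).subschemeι hinst.symm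
    (Iso.refl (OC (LefPen.hypIdeal G) 1)) hdom hrat
  rw [Groth.Agent.AV.DegreeForm.finrank_eq_residueDegree φ hdom, h1] at hrk
  omega

include hG hinst in
theorem not_double_cover_line (hd : 4 ≤ d) [Smooth ((LefPen.hypIdeal G).subscheme ↘ Spec (CommRingCat.of k))]
    (φ : (LefPen.hypIdeal G).subscheme ⟶ CohB1.ProjSpace 1 k)
    (hφ : φ ≫ CohB1.ProjSpace.toSpec 1 k = (LefPen.hypIdeal G).subscheme ↘ Spec (CommRingCat.of k))
    [IsFinite φ] [Flat φ] (hrk : ∀ y, φ.finrank y = 2) : False := by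
  haveI := isProper_plane G hinst
  obtain ⟨hint, hdim⟩ := plane_facts G hG hinst (by omega)
  haveI := hint
  haveI : IsIntegral (Groth.L18.PUP.P 1 k) := Groth.L16.ProjSpace.isIntegral (n := 1) (R := k)
  haveI := Groth.L21.RR.isNoetherian_of_proper (X := (LefPen.hypIdeal G).subscheme) k
  haveI := Groth.L21.RR.isNoetherian_of_proper (X := Groth.L18.PUP.P 1 k) k
  haveI : IsLocallyNoetherian (CohB1.ProjSpace 1 k) := inferInstanceAs (IsLocallyNoetherian (Groth.L18.PUP.P 1 k))
  haveI : IsIntegral (CohB1.ProjSpace 1 k) := inferInstanceAs (IsIntegral (Groth.L18.PUP.P 1 k))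
  let f : (LefPen.hypIdeal G).subscheme ⟶ Groth.L18.PUP.P 1 k := φ
  haveI : IsFinite f := ‹_›
  haveI : Flat f := ‹_›
  have hdom : φ (genericPoint (LefPen.hypIdeal G).subscheme) = genericPoint (CohB1.ProjSpace 1 k) := Groth.L21.P1.map_genericPoint f hdim
  have h0 := h0_structure G hG hinst (by omega)
  obtain ⟨hL0, hL1⟩ := line_invariants G hG hinst (by omega)
  set L := OC (LefPen.hypIdeal G) 1
  have hL : PicF.IsInvertible L := isInvertible_OC _ _
  have hinv : ∀ m, PicF.IsInvertible ((Scheme.Modules.pullback f).obj (O k m)) := fun m =>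
    Groth.L18.Ample.isInvertible_pullback f (Groth.L16.ProjTwist.isInvertible_twistProjSpace 1 k m)
  have hn := Groth.L21.P1.isFinLocFreeOfRank_push_two f hrk
  have hr : FlatMod.IsFinLocFree ((Scheme.Modules.pushforward f).obj L) := by
    haveI : LocallyOfFinitePresentation f := inferInstance
    exact Groth.L20.ResDescent.isFinLocFree_push f ⟨inferInstance, inferInstance, inferInstance⟩ L
      (Groth.L16.Existence.isFinLocFree_of_isInvertible hL)
  obtain ⟨r, hr⟩ := Groth.L21.Disc.exists_rank hr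
  obtain ⟨a, -, ⟨θ⟩⟩ := Groth.L21.P1.exists_splitting k hr
  have ht : ∀ (m : ℤ) (p : ℕ), h k p (CohB1.tensorMod ((Scheme.Modules.pullback f).obj (O k m)) L) =
      ∑ l, h k p (O k (m + a l)) := Groth.L21.Duality.h_tensor_pullback_twist f hφ hL a θ
  obtain ⟨z0⟩ := Groth.L16.ProjTwist.nonempty_twist_zero_iso (CohB1.polyGrading 1 k)
  let i0 : CohB1.tensorMod ((Scheme.Modules.pullback f).obj (O k 0)) L ≅ L :=
    tensorIso ((Scheme.Modules.pullback f).mapIso z0 ≪≫ Groth.L29.LocFree.pullbackUnitIso f) (Iso.refl L) ≪≫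
      tensorUnitLeft L
  have hsum : ∑ l, ((a l + 1).toNat) = 3 := by
    rw [← hL0, ← Groth.L21.RR.h_congr k i0 0, ht]
    exact Finset.sum_congr rfl fun l _ => by rw [(h_O k _).1, zero_add]
  have hsum1 : ∑ l, ((-a l - 1).toNat) = Nat.choose (d - 2) 2 := by
    rw [← hL1, ← Groth.L21.RR.h_congr k i0 1, ht]
    exact Finset.sum_congr rfl fun l _ => by rw [(h_O k _).2, zero_add]
  have hpos : 0 < Nat.choose (d - 2) 2 := Nat.choose_pos (by omega)
  obtain ⟨l₀, hl₀⟩ : ∃ l, 2 ≤ a l := by
    by_contra! hall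
    have h1 := Groth.L21.Duality.deg_tensor (k := k) hdim (hinv 1) hL
    have h2 := Groth.L21.P1.deg_pullback_O_one f hdim.le hφ hn
    have h3 : Curv2.deg k (LefPen.hypIdeal G).subscheme L 1 = Curv2.euler k (LefPen.hypIdeal G).subscheme L - Curv2.euler k (LefPen.hypIdeal G).subscheme (Coh.structureModule (LefPen.hypIdeal G).subscheme) := by
      unfold Curv2.deg; simp
    rw [h2, h3, Curv2.deg, Groth.L21.RR.euler_eq k hdim.le, Groth.L21.RR.euler_eq k hdim.le,
      Groth.L21.RR.euler_eq k hdim.le, ht 1 0, ht 1 1, hL0, hL1] at h1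
    have h5 : ((∑ l, h k 0 (O k (1 + a l)) : ℕ) : ℤ) - ((∑ l, h k 1 (O k (1 + a l)) : ℕ) : ℤ) =
        (((∑ l, (a l + 1).toNat) : ℕ) : ℤ) - (((∑ l, (-a l - 1).toNat) : ℕ) : ℤ) + (r : ℤ) := by
      push_cast
      have hr1 : (r : ℤ) = ∑ _l : Fin r, (1 : ℤ) := by simp
      rw [hr1, ← Finset.sum_sub_distrib, ← Finset.sum_sub_distrib, ← Finset.sum_add_distrib]
      refine Finset.sum_congr rfl fun l _ => ?_
      rw [(h_O k _).1, (h_O k _).2]
      omega
    rw [h5, hsum, hsum1] at h1
    have hr2 : r = 2 := by omega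
    subst hr2
    rw [Fin.sum_univ_two] at hsum hsum1
    have := hall 0
    have := hall 1
    omega
  let E := CohB1.tensorMod ((Scheme.Modules.pullback f).obj (O k (-2))) L
  have hE : PicF.IsInvertible E := Groth.L18.GenLoc.isInvertible_tensor (hinv _) hL
  haveI : Nontrivial (Coh.HH (LefPen.hypIdeal G).subscheme E 0) :=
    not_subsingleton_iff_nontrivial.1 fun hs => by
      have h1 := Groth.L21.RR.h_eq_zero_of_subsingleton k hs
      rw [ht] at h1
      have h2 := Finset.sum_eq_zero_iff.1 h1 l₀ (Finset.mem_univ _)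
      rw [(h_O k _).1] at h2
      omega
  obtain ⟨x, hx⟩ := exists_ne (0 : Coh.HH (LefPen.hypIdeal G).subscheme E 0)
  have hs : e0 E x ≠ 0 := fun h1 => hx ((e0 E).injective (h1.trans (map_zero _).symm))
  obtain ⟨e22⟩ := Groth.L16.ProjTwist.nonempty_tensor_twist_iso_one (CohB1.polyGrading 1 k)
    (Groth.L21.P1.exists_basicOpen_one k) 2 (-2)
  let ε : CohB1.tensorMod ((Scheme.Modules.pullback f).obj (O k 2)) E ≅ L :=
    (tensorAssoc _ _ _).symm ≪≫ tensorIso (Groth.L29.DC.PullTensor.pullTensor f _ _ ≪≫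
      (Scheme.Modules.pullback f).mapIso (e22 ≪≫ eqToIso (by norm_num) ≪≫ z0) ≪≫
      Groth.L29.LocFree.pullbackUnitIso f) (Iso.refl L) ≪≫ tensorUnitLeft L
  have hN := Groth.L16.ProjTwist.isInvertible_twistProjSpace 1 k 2
  haveI : Module.Finite k (Coh.HH (LefPen.hypIdeal G).subscheme L 0) := finite_HH' k (Groth.L16.ProperFinite.isCoh_of_isInvertible hL) 0
  haveI : IsProper (CohB1.ProjSpace 1 k ↘ Spec (CommRingCat.of k)) := properProj k 1
  haveI : Module.Finite k (Coh.HH (Groth.L18.PUP.P 1 k) (O k 2) 0) :=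
    finite_HH' k (Groth.L16.ProperFinite.isCoh_of_isInvertible hN) 0
  refine not_ratios_in_double_cover G hG hinst φ hφ hdom (hrk _)
    (exists_mem_imF f ε (e0 E x) k hφ hN hE hs hdom ?_)
  rw [hL0, (h_O k _).1]
  rfl

omit [Field k] in
theorem isFinLocFreeOfRank_one {Y : Scheme.{u}} {L : Y.Modules} (h : PicF.IsInvertible L) :
    FlatMod.IsFinLocFreeOfRank 1 L := fun y => by
  obtain ⟨U, hy, ⟨e⟩⟩ := h y
  refine ⟨U, hy, ⟨e ≪≫ ?_⟩⟩
  exact
    { hom := Sigma.ι (fun _ : Fin 1 => Coh.structureModule (↑U)) 0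
      inv := Sigma.desc fun _ => 𝟙 _
      hom_inv_id := Sigma.ι_desc _ _
      inv_hom_id := Sigma.hom_ext _ _ fun b => by
        rw [Subsingleton.elim b 0, Sigma.ι_desc_assoc, Category.id_comp, Category.comp_id] }

omit [(LefPen.hypIdeal G).subscheme.Over (Spec (CommRingCat.of k))] in
theorem not_double_cover_genus_zero (G : LefPen.Form 2 k 4) (hG : G ≠ 0)
    [(LefPen.hypIdeal G).subscheme.Over (Spec (CommRingCat.of k))]
    (hinst : (LefPen.hypIdeal G).subscheme ↘ Spec (CommRingCat.of k) =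
      (LefPen.hypIdeal G).subschemeι ≫ CohB1.ProjSpace.toSpec 2 k)
    [Smooth ((LefPen.hypIdeal G).subscheme ↘ Spec (CommRingCat.of k))]
    {P : Scheme.{u}} [P.Over (Spec (CommRingCat.of k))] [IsProper (P ↘ Spec (CommRingCat.of k))]
    [Smooth (P ↘ Spec (CommRingCat.of k))] (hP : topologicalKrullDim P = 1)
    (hP0 : (h k 0 (Coh.structureModule P) : ℤ) - h k 1 (Coh.structureModule P) = 1)
    (φ : (LefPen.hypIdeal G).subscheme ⟶ P)
    (hφ : φ ≫ (P ↘ Spec (CommRingCat.of k)) = (LefPen.hypIdeal G).subscheme ↘ Spec (CommRingCat.of k))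
    [IsFinite φ] [Flat φ] (hrk : ∀ y, φ.finrank y = 2) : False := by
  haveI := isProper_plane G hinst
  obtain ⟨hint, hdim⟩ := plane_facts G hG hinst (by omega)
  haveI := hint
  haveI := Groth.L21.RR.isNoetherian_of_proper (X := (LefPen.hypIdeal G).subscheme) k
  haveI := Groth.L21.RR.isNoetherian_of_proper (X := P) k
  haveI : LocallyOfFinitePresentation φ := inferInstance
  haveI : Surjective φ := φ.one_le_finrank_iff_surjective.1 fun y => by simp [hrk y]
  haveI : ConnectedSpace P := φ.surjective.connectedSpace φ.continuous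
  haveI : IsIntegral P := Groth.L21.NormalTotal.isIntegral_of_connected fun x =>
    Groth.L21.Smooth.isDomain_stalk (P ↘ Spec (CommRingCat.of k)) x
  have hdom : φ (genericPoint (LefPen.hypIdeal G).subscheme) = genericPoint P := Groth.Agent.AV.DegreeForm.map_genericPoint φ
  have h0 := h0_structure G hG hinst (by omega)
  have h1 : h k 1 (Coh.structureModule (LefPen.hypIdeal G).subscheme) = 3 := h1_structure G hG hinst
  obtain ⟨hL0, hL1⟩ := line_invariants G hG hinst (by omega)
  set L := OC (LefPen.hypIdeal G) 1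
  have hL : PicF.IsInvertible L := isInvertible_OC _ _
  have hO := Groth.L18.Ample.isInvertible_structureModule (LefPen.hypIdeal G).subscheme
  have hone : Groth.L21.RR.oneSec (LefPen.hypIdeal G).subscheme ≠ 0 := one_ne_zero (α := Γ((LefPen.hypIdeal G).subscheme, ⊤))
  haveI : Module.Finite k (Coh.HH (LefPen.hypIdeal G).subscheme (Coh.structureModule (LefPen.hypIdeal G).subscheme) 0) :=
    finite_HH' k (Groth.L16.CohClosedPush.isCoh_structure (X := (LefPen.hypIdeal G).subscheme)) 0
  have hPO : h k 0 (Coh.structureModule P) ≤ 1 := h0 ▸ h0_le φ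
    (tensorUnitRight _ ≪≫ Groth.L29.LocFree.pullbackUnitIso φ) (Groth.L21.RR.oneSec (LefPen.hypIdeal G).subscheme) k hφ
    (Groth.L18.Ample.isInvertible_structureModule P) hO hone hdom
  have hP0' : h k 0 (Coh.structureModule P) = 1 := by omega
  obtain ⟨hΩ0, hΩ1, hΩd⟩ := Groth.L21.Duality.omega_invariants (k := k) (X := P) hP
  have hΩd' : Curv2.deg k P (Omega.sheaf (P ↘ Spec (CommRingCat.of k))) 1 =
      2 * (h k 1 (Coh.structureModule P) : ℤ) - 2 := hΩd hP0'
  obtain ⟨N, hN, ⟨iN⟩⟩ := Groth.L08.Cube.exists_inverse (Groth.L21.Duality.isInvertible_omega (k := k) hP)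
  have hdeg := Groth.L21.Duality.deg_tensor (k := k) hP (Groth.L21.Duality.isInvertible_omega (k := k) hP) hN
  rw [Groth.L21.RR.deg_congr k iN 1, Groth.L22.CurveDeg.deg_structure, hΩd',
    show h k 1 (Coh.structureModule P) = 0 by omega] at hdeg
  have hdN : Curv2.deg k P N 1 = 2 := by push_cast at hdeg; omega
  have hN0 : 3 ≤ h k 0 N := by
    have h2 : Curv2.deg k P N 1 = Curv2.euler k P N - Curv2.euler k P (Coh.structureModule P) := by
      unfold Curv2.deg; simp
    rw [hdN, Groth.L21.RR.euler_eq k hP.le, Groth.L21.RR.euler_eq k hP.le] at h2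
    omega
  set M := (Scheme.Modules.pullback φ).obj N
  have hM : PicF.IsInvertible M := Groth.L18.Ample.isInvertible_pullback φ hN
  have hM0 : h k 0 N ≤ h k 0 M := by
    haveI : Module.Finite k (Coh.HH (LefPen.hypIdeal G).subscheme M 0) := finite_HH' k (Groth.L16.ProperFinite.isCoh_of_isInvertible hM) 0
    exact h0_le φ (tensorUnitRight _) (Groth.L21.RR.oneSec (LefPen.hypIdeal G).subscheme) k hφ hN hO hone hdom
  have hres : φ.residueDegree (genericPoint (LefPen.hypIdeal G).subscheme) = 2 :=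
    (Groth.Agent.AV.DegreeForm.finrank_eq_residueDegree φ hdom).symm.trans (hrk _)
  have hdM : Curv2.deg k (LefPen.hypIdeal G).subscheme M 1 = 2 * (h k 1 (Coh.structureModule (LefPen.hypIdeal G).subscheme) : ℤ) - 2 := by
    rw [Groth.Agent.S7640.result k (LefPen.hypIdeal G).subscheme P hdim hP φ hφ hdom 1 N (isFinLocFreeOfRank_one hN), hres, hdN, h1]
    norm_num
  have hdL : Curv2.deg k (LefPen.hypIdeal G).subscheme L 1 = 2 * (h k 1 (Coh.structureModule (LefPen.hypIdeal G).subscheme) : ℤ) - 2 := by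
    have h2 : Curv2.deg k (LefPen.hypIdeal G).subscheme L 1 = Curv2.euler k (LefPen.hypIdeal G).subscheme L - Curv2.euler k (LefPen.hypIdeal G).subscheme (Coh.structureModule (LefPen.hypIdeal G).subscheme) := by
      unfold Curv2.deg; simp
    rw [h2, Groth.L21.RR.euler_eq k hdim.le, Groth.L21.RR.euler_eq k hdim.le, hL0, hL1, h0, h1]
    rfl
  obtain ⟨iM⟩ := Groth.L21.Duality.nonempty_iso_omega hdim h0 hM hdM (by omega)
  obtain ⟨iL⟩ := Groth.L21.Duality.nonempty_iso_omega hdim h0 hL hdL (by omega)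
  haveI : Module.Finite k (Coh.HH (LefPen.hypIdeal G).subscheme L 0) := finite_HH' k (Groth.L16.ProperFinite.isCoh_of_isInvertible hL) 0
  haveI : Module.Finite k (Coh.HH P N 0) := finite_HH' k (Groth.L16.ProperFinite.isCoh_of_isInvertible hN) 0
  exact not_ratios_in_double_cover G hG hinst φ hφ hdom (hrk _)
    (exists_mem_imF φ (tensorUnitRight _ ≪≫ iM ≪≫ iL.symm) (Groth.L21.RR.oneSec (LefPen.hypIdeal G).subscheme) k hφ hN hO hone hdom (hL0.trans_le hN0))

end Groth.L21.PlaneCurve
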