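import Groth.Agent.L16.ProjSpace.CohTwist
import Groth.Agent.L16.ProjSpace.TopCoh
import Groth.Agent.L16.ProjSpace.Dim
import Groth.Agent.L03.PlanePoints
import Groth.Agent.L03.Euler.Basic
import Groth.Agent.L22.Inter.Fga
import Groth.Agent.L21.RR.Twist
import Groth.Agent.L21.P1.PushCoh
import Groth.Agent.L22.Reg.Pn

/-!
Cohomology of hypersurfaces in projective space.
-/

set_option autoImplicit false
set_option backward.isDefEq.respectTransparency false
set_option linter.style.haveILetI false
universe u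

open CategoryTheory CategoryTheory.Limits AlgebraicGeometry TopologicalSpace Opposite

noncomputable section

namespace Groth.L21.PlaneCurve

open Groth.L00.Tensor (tensorIso tensorComm tensorUnitRight)
open Groth.L16.CohLinear (hmap overLin)
open Groth.L21.RR (h)

variable (k : Type u) [Field k] (N : ℕ)

theorem properProj : IsProper ((CohB1.ProjSpace N k) ↘ Spec (CommRingCat.of k)) :=
  inferInstanceAs (IsProper (CohB1.ProjSpace.toSpec N k))

theorem isCoh_twist (n : ℤ) : Coh.IsCoh (Twist.twistProjSpace N k n) :=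
  Groth.L16.ProperFinite.isCoh_of_isInvertible (Groth.L16.ProjTwist.isInvertible_twistProjSpace N k n)

theorem finite_twist (n : ℤ) (p : ℕ) :
    Module.Finite k (Coh.HH (CohB1.ProjSpace N k) (Twist.twistProjSpace N k n) p) :=
  haveI := properProj k N
  Groth.L21.RR.finite_HH' k (isCoh_twist k N n) p

/-- Sections of twists. -/
theorem h_zero_twist (hN : 1 ≤ N) (n : ℤ) :
    h k 0 (Twist.twistProjSpace N k n) = Nat.choose (n + (N : ℤ)).toNat N := by
  by_cases hn : 0 ≤ n
  · obtain ⟨j, rfl⟩ := Int.eq_ofNat_of_zero_le hn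
    obtain ⟨e⟩ := Groth.L16.ProjSpace.nonempty_H0_twist_linearEquiv (n := N) (R := k) j
    rw [show h k 0 (Twist.twistProjSpace N k (j : ℤ)) = _ from e.finrank_eq,
      (Groth.L03.PlanePoints.finrank_homogeneous (F := k) N j).2]
    congr 1
  · rw [Groth.L21.RR.h_eq_zero_of_subsingleton k
      (Groth.L16.ProjSpace.subsingleton_HH_twist N k n 0 (fun h => hn h.2) (fun h => by omega))]
    rw [Nat.choose_eq_zero_of_lt]
    omega

/-- Top cohomology of twists. -/
theorem h_top_twist (hN : 1 ≤ N) (n : ℤ) :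
    h k N (Twist.twistProjSpace N k n) = Nat.choose (-n - 1).toNat N := by
  by_cases hn : n ≤ -((N : ℤ) + 1)
  · obtain ⟨j, hj⟩ := Int.eq_ofNat_of_zero_le (show (0 : ℤ) ≤ -((N : ℤ) + 1) - n by omega)
    obtain rfl : n = -((N : ℤ) + 1 + j) := by omega
    obtain ⟨e⟩ := Groth.L16.ProjSpace.nonempty_HH_top_linearEquiv N j k
    rw [show h k N (Twist.twistProjSpace N k (-((N : ℤ) + 1 + j))) = _ from e.finrank_eq,
      (Groth.L03.PlanePoints.finrank_homogeneous (F := k) N j).2]
    congr 1
    omega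
  · rw [Groth.L21.RR.h_eq_zero_of_subsingleton k
      (Groth.L16.ProjSpace.subsingleton_HH_twist N k n N (fun h => by omega) (fun h => hn h.2))]
    rw [Nat.choose_eq_zero_of_lt]
    omega

theorem h_mid_twist {p : ℕ} (hp : p ≠ 0) (hpN : p ≠ N) (n : ℤ) :
    Subsingleton (Coh.HH (CohB1.ProjSpace N k) (Twist.twistProjSpace N k n) p) :=
  Groth.L16.ProjSpace.subsingleton_HH_twist N k n p (fun h => hp h.1) (fun h => hpN h.1)

/-- The dimension of a hypersurface. -/
theorem dim_support_le {m : ℕ} (I : (CohB1.ProjSpace (m + 1) k).IdealSheafData)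
    (hne : (I.support : Set (CohB1.ProjSpace (m + 1) k)) ≠ Set.univ) :
    topologicalKrullDim I.subscheme ≤ m := by
  haveI : IsIntegral (CohB1.ProjSpace (m + 1) k) := Groth.L16.ProjSpace.isIntegral (n := m + 1) (R := k)
  have hemb := I.subschemeι.isEmbedding
  refine iSup_le fun p => ?_
  let f : IrreducibleCloseds I.subscheme → IrreducibleCloseds (CohB1.ProjSpace (m + 1) k) := fun Z =>
    ⟨I.subschemeι '' Z, Z.isIrreducible.image _ I.subschemeι.continuous.continuousOn,
      I.subschemeι.isClosedEmbedding.isClosedMap _ Z.isClosed⟩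
  have hmono : StrictMono f := fun Z W hZW =>
    (hemb.injective.image_strictMono (show (Z : Set I.subscheme) ⊂ W from hZW) :)
  let top : IrreducibleCloseds (CohB1.ProjSpace (m + 1) k) :=
    ⟨Set.univ, IrreducibleSpace.isIrreducible_univ _, isClosed_univ⟩
  have hlt : (p.map f hmono).last < top := by
    refine lt_of_le_of_ne (fun z _ => trivial) fun heq => hne (Set.eq_univ_of_univ_subset ?_)
    rw [← Scheme.IdealSheafData.range_subschemeι, show (Set.univ : Set (CohB1.ProjSpace (m + 1) k)) =
      I.subschemeι '' (p.last : Set I.subscheme) from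
        (congrArg (fun Z : IrreducibleCloseds _ => (Z : Set (CohB1.ProjSpace (m + 1) k))) heq).symm]
    exact Set.image_subset_range _ _
  have h1 := Order.LTSeries.length_le_krullDim ((p.map f hmono).snoc top hlt)
  rw [show Order.krullDim (IrreducibleCloseds (CohB1.ProjSpace (m + 1) k)) =
    ((m + 1 : ℕ) : WithBot ℕ∞) from Groth.L16.ProjSpace.topologicalKrullDim_eq_of_field (m + 1) k] at h1
  simp only [RelSeries.snoc_length, LTSeries.map_length] at h1
  have h2 : p.length + 1 ≤ m + 1 := by exact_mod_cast h1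
  exact_mod_cast (show p.length ≤ m by omega)

variable {k N}

/-- The twisted structure module of a hypersurface. -/
abbrev OX (I : (CohB1.ProjSpace N k).IdealSheafData) (n : ℤ) : (CohB1.ProjSpace N k).Modules :=
  CohB1.tensorMod (ClSub.quotMod I) (Twist.twistProjSpace N k n)

theorem exists_ses {d : ℕ} (I : (CohB1.ProjSpace N k).IdealSheafData)
    (hI : Nonempty (ClSub.idealMod I ≅ Twist.twistProjSpace N k (-(d : ℤ)))) (n : ℤ) :
    ∃ (f : Twist.twistProjSpace N k (n - d) ⟶ Twist.twistProjSpace N k n)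
      (g : Twist.twistProjSpace N k n ⟶ OX I n) (w : f ≫ g = 0), (ShortComplex.mk f g w).ShortExact := by
  obtain ⟨i⟩ := hI
  obtain ⟨a⟩ := Groth.L22.Reg.nonempty_O_add (n := N) (R := k) (show n + -(d : ℤ) = n - d by omega)
  have hL := Groth.L16.ProjTwist.isInvertible_twistProjSpace N k n
  have hS := Groth.L21.RR.shortExact_tw I hL
  let e₁ : CohB1.tensorMod (Twist.twistProjSpace N k n) (ClSub.idealMod I) ≅ Twist.twistProjSpace N k (n - d) :=
    tensorIso (Iso.refl _) i ≪≫ a
  let e₃ : CohB1.tensorMod (Twist.twistProjSpace N k n) (ClSub.quotMod I) ≅ OX I n := tensorComm _ _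
  refine ⟨e₁.inv ≫ Groth.L21.RR.twι _ I, Groth.L21.RR.twπ _ I ≫ e₃.hom, ?_, ?_⟩
  · rw [Category.assoc, ← Category.assoc (Groth.L21.RR.twι _ I), Groth.L21.RR.twι_twπ, zero_comp, comp_zero]
  · exact (ShortComplex.shortExact_iff_of_iso (S₁ := ShortComplex.mk (Groth.L21.RR.twι (Twist.twistProjSpace N k n) I) (Groth.L21.RR.twπ (Twist.twistProjSpace N k n) I) (Groth.L21.RR.twι_twπ _ _)) (S₂ := ShortComplex.mk _ _ _) (ShortComplex.isoMk e₁ (Iso.refl _) e₃ (by simp) (by simp))).1 hS

theorem subsingleton_OX_of_lt {m : ℕ} (I : (CohB1.ProjSpace (m + 1) k).IdealSheafData)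
    (hne : (I.support : Set (CohB1.ProjSpace (m + 1) k)) ≠ Set.univ) {M : I.subscheme.Modules} [Coh.IsQCoh M]
    {p : ℕ} (hp : m < p) : Subsingleton (Coh.HH I.subscheme M p) := by
  haveI := properProj k (m + 1)
  haveI := Groth.L21.RR.isNoetherian_of_proper (X := CohB1.ProjSpace (m + 1) k) k
  haveI : IsNoetherian I.subscheme :=
    letI : I.subscheme.Over (Spec (CommRingCat.of k)) :=
      ⟨I.subschemeι ≫ CohB1.ProjSpace.toSpec (m + 1) k⟩
    haveI : IsProper (I.subscheme ↘ Spec (CommRingCat.of k)) :=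
      inferInstanceAs (IsProper (I.subschemeι ≫ CohB1.ProjSpace.toSpec (m + 1) k))
    Groth.L21.RR.isNoetherian_of_proper (X := I.subscheme) k
  exact Groth.L22.Inter.subsingleton_HH_of_dim (dim_support_le k I hne) M hp

end Groth.L21.PlaneCurve
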